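/-
Sparse matrices with monomial entries in two parameters, and their evaluation.
-/
import Mathlib

set_option autoImplicit false
set_option linter.unusedSectionVars false

namespace Cfsg.Agent.Chev.OrthModel

/-- An entry: row, column, the two exponents, the coefficient. -/
abbrev Ent (ι : Type) := ι × ι × ℕ × ℕ × ℤ

variable {ι : Type} [DecidableEq ι]

/-- The identity. -/
def one1 (L : List ι) : List (Ent ι) := L.map fun a => (a, a, 0, 0, 1)

/-- Product of two entries. -/
def mulE (e f : Ent ι) : List (Ent ι) :=
  if e.2.1 = f.1 then [(e.1, f.2.1, e.2.2.1 + f.2.2.1, e.2.2.2.1 + f.2.2.2.1, e.2.2.2.2 * f.2.2.2.2)] else []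

/-- Product of two sparse matrices. -/
def mulS (A B : List (Ent ι)) : List (Ent ι) := A.flatMap fun e => B.flatMap (mulE e)

/-- Product of a list of sparse matrices. -/
def prodS (L : List ι) : List (List (Ent ι)) → List (Ent ι)
  | [] => one1 L
  | A :: As => mulS A (prodS L As)

/-- Transpose. -/
def trS (A : List (Ent ι)) : List (Ent ι) := A.map fun e => (e.2.1, e.1, e.2.2)

/-- Negative. -/
def negS (A : List (Ent ι)) : List (Ent ι) := A.map fun e => (e.1, e.2.1, e.2.2.1, e.2.2.2.1, -e.2.2.2.2)

/-- Add one entry into a collected list. -/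
def insE (e : Ent ι) : List (Ent ι) → List (Ent ι)
  | [] => [e]
  | f :: L => if e.1 = f.1 ∧ e.2.1 = f.2.1 ∧ e.2.2.1 = f.2.2.1 ∧ e.2.2.2.1 = f.2.2.2.1 then
      (f.1, f.2.1, f.2.2.1, f.2.2.2.1, e.2.2.2.2 + f.2.2.2.2) :: L
    else f :: insE e L

/-- Collect equal positions. -/
def nrmS (A : List (Ent ι)) : List (Ent ι) := A.foldr insE []

/-- The matrix is identically zero. -/
def isZ (A : List (Ent ι)) : Bool := (nrmS A).all fun e => decide (e.2.2.2.2 = 0)

/-- The two matrices are identically equal. -/
def eqS (A B : List (Ent ι)) : Bool := isZ (A ++ negS B)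

variable [Fintype ι] {K : Type*} [CommRing K]

/-- The value of an entry. -/
def term (t u : K) (e : Ent ι) : Matrix ι ι K :=
  Matrix.single e.1 e.2.1 ((e.2.2.2.2 : K) * t ^ e.2.2.1 * u ^ e.2.2.2.1)

/-- Evaluation. -/
def evS (t u : K) (A : List (Ent ι)) : Matrix ι ι K := (A.map (term t u)).sum

variable (t u : K)

theorem evS_append (A B : List (Ent ι)) : evS t u (A ++ B) = evS t u A + evS t u B := by
  simp [evS]

theorem evS_cons (e : Ent ι) (A : List (Ent ι)) : evS t u (e :: A) = term t u e + evS t u A := by
  simp [evS]

theorem evS_mulE (e f : Ent ι) : evS t u (mulE e f) = term t u e * term t u f := by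
  unfold mulE
  split_ifs with h
  · rw [evS_cons, evS, List.map_nil, List.sum_nil, add_zero, term, term, term, ← h,
      Matrix.single_mul_single_same]
    congr 1
    push_cast
    rw [pow_add, pow_add]
    ring
  · rw [term, term, Matrix.single_mul_single_of_ne (h := h)]
    simp [evS]

theorem evS_row (e : Ent ι) (B : List (Ent ι)) : evS t u (B.flatMap (mulE e)) = term t u e * evS t u B := by
  induction B with
  | nil => simp [evS]
  | cons f B ih => rw [List.flatMap_cons, evS_append, evS_mulE, ih, evS_cons, mul_add]

theorem evS_mul (A B : List (Ent ι)) : evS t u (mulS A B) = evS t u A * evS t u B := by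
  induction A with
  | nil => simp [evS, mulS]
  | cons e A ih =>
    rw [mulS, List.flatMap_cons, evS_append, evS_row, evS_cons, add_mul, ← ih, mulS]

theorem evS_one {L : List ι} (hn : L.Nodup) (hc : ∀ a, a ∈ L) : evS t u (one1 L) = 1 := by
  have hF : L.toFinset = Finset.univ := Finset.eq_univ_iff_forall.2 fun a => List.mem_toFinset.2 (hc a)
  rw [evS, one1, List.map_map, ← List.sum_toFinset _ hn, hF]
  simp only [Function.comp_def, term, Int.cast_one, pow_zero, mul_one]
  ext a b
  rw [Matrix.sum_apply]
  simp [Matrix.single, Matrix.one_apply, ite_and]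

theorem evS_prod {L : List ι} (hn : L.Nodup) (hc : ∀ a, a ∈ L) (As : List (List (Ent ι))) :
    evS t u (prodS L As) = (As.map (evS t u)).prod := by
  induction As with
  | nil => simpa [prodS] using evS_one t u hn hc
  | cons A As ih => rw [prodS, evS_mul, ih, List.map_cons, List.prod_cons]

theorem evS_tr (A : List (Ent ι)) : evS t u (trS A) = (evS t u A).transpose := by
  induction A with
  | nil => simp [evS, trS]
  | cons e A ih =>
    rw [trS, List.map_cons, evS_cons, evS_cons, Matrix.transpose_add, ← ih, trS, term, term, Matrix.transpose_single]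

theorem evS_neg (A : List (Ent ι)) : evS t u (negS A) = -evS t u A := by
  induction A with
  | nil => simp [evS, negS]
  | cons e A ih =>
    rw [negS, List.map_cons, evS_cons, evS_cons, neg_add, ← ih, negS, term, term]
    congr 1
    rw [← neg_one_smul K (Matrix.single e.1 e.2.1 _), Matrix.smul_single]
    congr 1
    push_cast
    simp

theorem evS_ins (e : Ent ι) (A : List (Ent ι)) : evS t u (insE e A) = term t u e + evS t u A := by
  induction A with
  | nil => rw [insE, evS_cons]
  | cons f A ih =>
    unfold insE
    split_ifs with h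
    · obtain ⟨h1, h2, h3, h4⟩ := h
      rw [evS_cons, evS_cons, ← add_assoc]
      congr 1
      simp only [term, h1, h2, h3, h4]
      rw [← Matrix.single_add]
      congr 1
      push_cast
      ring
    · rw [evS_cons, ih, evS_cons]
      abel

theorem evS_nrm (A : List (Ent ι)) : evS t u (nrmS A) = evS t u A := by
  induction A with
  | nil => rfl
  | cons e A ih => rw [nrmS, List.foldr_cons, evS_ins, evS_cons, ← ih, nrmS]

theorem evS_eq_zero {A : List (Ent ι)} (h : isZ A = true) : evS t u A = 0 := by
  rw [← evS_nrm]
  refine List.sum_eq_zero fun M hM => ?_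
  obtain ⟨e, he, rfl⟩ := List.mem_map.1 hM
  simp only [isZ, List.all_eq_true, decide_eq_true_eq] at h
  simp [term, h e he]

theorem evS_eq {A B : List (Ent ι)} (h : eqS A B = true) : evS t u A = evS t u B := by
  have := evS_eq_zero t u (K := K) h
  rwa [evS_append, evS_neg, ← sub_eq_add_neg, sub_eq_zero] at this

end Cfsg.Agent.Chev.OrthModel
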