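/-
Orthogonal root elements attached to a packed table, and their symbolic checks.
-/
import Cfsg.Agent.Lib.Chev.OrthModel.Sparse
import Cfsg.Agent.Lib.Chev.CommEngine

set_option autoImplicit false

namespace Cfsg.Agent.Chev.OrthModel

open Cfsg.Agent.Chev

/-- A root element `1 + Σ c sᵏ E`: the entries `(row, column, k, c)` for each root. -/
abbrev Tab (ι : Type) := ℕ → List (ι × ι × ℕ × ℤ)

variable {ι : Type} [DecidableEq ι]

/-- The root element with parameter `c tⁱ uʲ`. -/
def elS (L : List ι) (T : Tab ι) (r : ℕ) (c : ℤ) (i j : ℕ) : List (Ent ι) :=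
  one1 L ++ (T r).map fun e => (e.1, e.2.1, e.2.2.1 * i, e.2.2.1 * j, e.2.2.2 * c ^ e.2.2.1)

/-- The root element with parameter `t + u`. -/
def elSum (L : List ι) (T : Tab ι) (r : ℕ) : List (Ent ι) :=
  one1 L ++ (T r).flatMap fun e => (List.range (e.2.2.1 + 1)).map fun i =>
    (e.1, e.2.1, i, e.2.2.1 - i, e.2.2.2 * (e.2.2.1.choose i : ℤ))

/-- Additivity. -/
def ckAdd (L : List ι) (T : Tab ι) (r : ℕ) : Bool :=
  eqS (mulS (elS L T r 1 1 0) (elS L T r 1 0 1)) (elSum L T r)

/-- The commutator formula. -/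
def ckRel (P : Pk) (L : List ι) (T : Tab ι) (r s : ℕ) : Bool :=
  eqS (mulS (elS L T s 1 0 1) (elS L T r 1 1 0))
    (prodS L (elS L T r 1 1 0 :: elS L T s 1 0 1 ::
      (P.cterms r s).map fun c => elS L T c.1 (c.2.1 * (-1) ^ c.2.2.1) c.2.2.1 c.2.2.2))

/-- The quadratic form given by the upper matrix `M` is preserved. -/
def ckForm (L : List ι) (M : List (Ent ι)) (T : Tab ι) (r : ℕ) : Bool :=
  let C := mulS (trS (elS L T r 1 1 0)) (mulS M (elS L T r 1 1 0)) ++ negS M
  isZ (C ++ trS C) && (nrmS C).all fun e => if e.1 = e.2.1 then decide (e.2.2.2.2 = 0) else true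

/-- Every entry has positive degree. -/
def ckPosDeg (T : Tab ι) (r : ℕ) : Bool := (T r).all fun e => Nat.blt 0 e.2.2.1

/-- All relations. -/
def ckAll (P : Pk) (L : List ι) (M : List (Ent ι)) (T : Tab ι) : Bool :=
  decide L.Nodup && P.allRoots.all fun r => ckAdd L T r && ckForm L M T r && ckPosDeg T r &&
    P.allRoots.all fun s => Nat.beq s r || Nat.beq s (P.ng r) || ckRel P L T r s

end Cfsg.Agent.Chev.OrthModel
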