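/-
Symbolic checks for monomial elements normalising the root elements.
-/
import Cfsg.Agent.Lib.Chev.OrthModel.Check

set_option autoImplicit false

namespace Cfsg.Agent.Chev.OrthModel

open Cfsg.Agent.Chev

variable {ι : Type} [DecidableEq ι]

/-- Cancel `tⁱ uⁱ`, valid when `t u = 1`. -/
def redS (A : List (Ent ι)) : List (Ent ι) :=
  A.map fun e => (e.1, e.2.1, e.2.2.1 - min e.2.2.1 e.2.2.2.1, e.2.2.2.1 - min e.2.2.1 e.2.2.2.1, e.2.2.2.2)

/-- Product with collection. -/
def prodN (L : List ι) : List (List (Ent ι)) → List (Ent ι)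
  | [] => one1 L
  | A :: As => nrmS (redS (mulS A (prodN L As)))

/-- A diagonal element `e ↦ t e`, `f ↦ u f` on one plane. -/
def torS (L : List ι) (a b : ι) : List (Ent ι) :=
  L.map fun x => if x = a then (x, x, 1, 0, 1) else if x = b then (x, x, 0, 1, 1) else (x, x, 0, 0, 1)

/-- The exchange of two basis vectors. -/
def swS (L : List ι) (a b : ι) : List (Ent ι) :=
  L.map fun x => if x = a then (b, x, 0, 0, 1) else if x = b then (a, x, 0, 0, 1) else (x, x, 0, 0, 1)

/-- A sign change of one basis vector. -/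
def negAtS (L : List ι) (z : ι) : List (Ent ι) :=
  L.map fun x => (x, x, 0, 0, if x = z then -1 else 1)

/-- The weight of a root for an integer grading of the basis. -/
def wtR (T : Tab ι) (wt : ι → ℤ) (r : ℕ) : ℤ :=
  match T r with
  | [] => 0
  | e :: _ => wt e.1 - wt e.2.1

/-- The grading scales every root element. -/
def ckWt (P : Pk) (T : Tab ι) (wt : ι → ℤ) : Bool :=
  P.allRoots.all fun r => (T r).all fun e => decide (wt e.1 - wt e.2.1 = (e.2.2.1 : ℤ) * wtR T wt r)

/-- An involutive monomial element permutes the root elements. -/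
def ckPerm (P : Pk) (L : List ι) (T : Tab ι) (S : List (Ent ι)) : Bool :=
  eqS (mulS S S) (one1 L) && S.all (fun e => Nat.beq e.2.2.1 0 && Nat.beq e.2.2.2.1 0) &&
    P.allRoots.all fun r => P.allRoots.any fun r' =>
      eqS (mulS S (mulS (elS L T r 1 1 0) S)) (elS L T r' 1 1 0) ||
        eqS (mulS S (mulS (elS L T r 1 1 0) S)) (elS L T r' (-1) 1 0)

/-- The twelve factors of `h_r(t)`. -/
def hFac (P : Pk) (L : List ι) (T : Tab ι) (r : ℕ) : List (List (Ent ι)) :=
  [elS L T r 1 1 0, elS L T (P.ng r) (-1) 0 1, elS L T r 1 1 0,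
   elS L T r (-1) 0 0, elS L T (P.ng r) 1 0 0, elS L T r (-1) 0 0]

/-- The prototype of a long root element. -/
def opS {n : ℕ} (L : List ι) (v : Fin n × Bool → ι) (a b : Fin n × Bool) : List (Ent ι) :=
  one1 L ++ [(v a, v (b.1, !b.2), 1, 0, 1), (v b, v (a.1, !a.2), 1, 0, -1)]

/-- The prototype of a short root element. -/
def shS {n : ℕ} (L : List ι) (v : Fin n × Bool → ι) (a : Fin n × Bool) (z : ι) : List (Ent ι) :=
  one1 L ++ [(z, v (a.1, !a.2), 1, 0, 1), (v a, v (a.1, !a.2), 2, 0, -1), (v a, z, 1, 0, -2)]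

/-- A prototype is a root element up to sign. -/
def isRootS (P : Pk) (L : List ι) (T : Tab ι) (S : List (Ent ι)) : Bool :=
  P.allRoots.any fun r => eqS S (elS L T r 1 1 0) || eqS S (elS L T r (-1) 1 0)

end Cfsg.Agent.Chev.OrthModel
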