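/-
The orthogonal models of the groups of types D4 and B2.
-/
import Cfsg.Agent.Lib.Chev.OrthModel.Extra
import Cfsg.Agent.Lib.Chev.AllC

set_option autoImplicit false
set_option maxHeartbeats 1000000

namespace Cfsg.Agent.Chev.OrthModel

open Cfsg.Agent.Chev

abbrev I8 := Fin 4 ⊕ Fin 4
abbrev I5 := Unit ⊕ (Fin 2 ⊕ Fin 2)
def v8 (n : Fin 4) (pos : Bool) : I8 := if pos then .inl n else .inr n
def v5 (n : Fin 2) (pos : Bool) : I5 := if pos then .inr (.inl n) else .inr (.inr n)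

def e8 (r : ℕ) : List Int :=
  let c (i : ℕ) := D4.pk.rv r i
  [c 0, c 1 - c 0, c 2 + c 3 - c 1, c 3 - c 2]
def base8 (r : ℕ) : List (I8 × I8 × ℕ × ℤ) :=
  let es := (List.finRange 4).filterMap fun n => let v := (e8 r).getD n.val 0; if v == 0 then none else some (n, decide (v > 0))
  match es with
  | [(a, sa), (b, sb)] => [(v8 a sa, v8 b (!sb), 1, 1), (v8 b sb, v8 a (!sa), 1, -1)]
  | _ => []
def e5 (r : ℕ) : List Int := let c (i : ℕ) := B2.pk.rv r i; [c 1, c 0 - c 1]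
def base5 (r : ℕ) : List (I5 × I5 × ℕ × ℤ) :=
  let es := (List.finRange 2).filterMap fun n => let v := (e5 r).getD n.val 0; if v == 0 then none else some (n, decide (v > 0))
  match es with
  | [(a, sa), (b, sb)] => [(v5 a sa, v5 b (!sb), 1, 1), (v5 b sb, v5 a (!sa), 1, -1)]
  | [(a, sa)] => [(.inl (), v5 a (!sa), 1, 1), (v5 a sa, v5 a (!sa), 2, -1), (v5 a sa, .inl (), 1, -2)]
  | _ => []

def flp {ι : Type} (base : ℕ → List (ι × ι × ℕ × ℤ)) (sg : List ℤ) : Tab ι :=
  fun r => (base r).map fun e => (e.1, e.2.1, e.2.2.1, e.2.2.2 * (sg.getD r 1) ^ e.2.2.1)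

def M8 : List (Ent I8) := (List.finRange 4).map fun i => (.inl i, .inr i, 0, 0, 1)
def M5 : List (Ent I5) := (.inl (), .inl (), 0, 0, 1) :: (List.finRange 2).map fun i => (.inr (.inl i), .inr (.inr i), 0, 0, 1)
def L8 : List I8 := (List.finRange 4).map .inl ++ (List.finRange 4).map .inr
def L5 : List I5 := .inl () :: ((List.finRange 2).map (fun i => .inr (.inl i)) ++ (List.finRange 2).map (fun i => .inr (.inr i)))

def sg8 : List ℤ := [1, 1, 1, 1, -1, 1, 1, 1, 1, -1, -1, -1, 1, 1, 1, -1, -1, -1, -1, 1, -1, -1, -1, -1]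
def sg5 : List ℤ := [1, 1, -1, 1, -1, 1, -1, -1]
def T8 := flp base8 sg8
def T5 := flp base5 sg5
def vv8 (a : Fin 4 × Bool) : I8 := v8 a.1 a.2
def vv5 (a : Fin 2 × Bool) : I5 := v5 a.1 a.2

/-- The square of the plane element. -/
def sq8 : List (Ent I8) :=
  L8.map fun x => if x = .inl 3 then (x, x, 2, 0, 1) else if x = .inr 3 then (x, x, 0, 2, 1) else (x, x, 0, 0, 1)

/-- The grading of the last plane of eight dimensions. -/
def wt8 (x : I8) : ℤ := if x = .inl 3 then 1 else if x = .inr 3 then -1 else 0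

/-- The grading of the last plane of five dimensions. -/
def wt5 (x : I5) : ℤ := if x = .inr (.inl 1) then 1 else if x = .inr (.inr 1) then -1 else 0

theorem all_D4 : ckAll D4.pk L8 M8 T8 = true := by decide +kernel
theorem all_B2 : ckAll B2.pk L5 M5 T5 = true := by decide +kernel
theorem deg_M8 : ∀ e ∈ M8, e.2.2.1 = 0 ∧ e.2.2.2.1 = 0 := by decide +kernel
theorem deg_M5 : ∀ e ∈ M5, e.2.2.1 = 0 ∧ e.2.2.2.1 = 0 := by decide +kernel
theorem mem_L8 : ∀ a : I8, a ∈ L8 := by rintro (i | i) <;> simp [L8]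
theorem mem_L5 : ∀ a : I5, a ∈ L5 := by rintro (i | i | i) <;> simp [L5]
theorem op_D4 : ∀ a b : Fin 4 × Bool, a.1 ≠ b.1 → isRootS D4.pk L8 T8 (opS L8 vv8 a b) = true := by decide +kernel
theorem op_B2 : ∀ a b : Fin 2 × Bool, a.1 ≠ b.1 → isRootS B2.pk L5 T5 (opS L5 vv5 a b) = true := by decide +kernel
theorem sh_B2 : ∀ a : Fin 2 × Bool, isRootS B2.pk L5 T5 (shS L5 vv5 a (.inl ())) = true := by decide +kernel
theorem wt_D4 : ckWt D4.pk T8 wt8 = true := by decide +kernel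
theorem wt_B2 : ckWt B2.pk T5 wt5 = true := by decide +kernel
theorem perm_D4 : ckPerm D4.pk L8 T8 (swS L8 (.inl 3) (.inr 3)) = true := by decide +kernel
theorem perm_B2 : ckPerm B2.pk L5 T5 (negAtS L5 (.inl ())) = true := by decide +kernel
theorem sq_D4 : eqS (prodN L8 (hFac D4.pk L8 T8 10 ++ hFac D4.pk L8 T8 12)) sq8 = true := by decide +kernel

end Cfsg.Agent.Chev.OrthModel
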