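/-
Two images of Steinberg's group: the simple one and the projective orthogonal one.
-/
import Mathlib

set_option autoImplicit false

namespace Cfsg.Agent.Chev.OrthModel

open scoped commutatorElement

/-- A perfect group with a central extension structure over a simple group: other perfect images. -/
theorem iso_of_images {S G₁ Γ : Type*} [Group S] [Group G₁] [Group Γ] [IsSimpleGroup G₁]
    (hS : commutator S = ⊤) (θ : S →* G₁) (hθ : Function.Surjective θ) (hker : θ.ker ≤ Subgroup.center S)
    (φ : S →* Γ) (hφ : Function.Surjective φ) (hne : Subgroup.center Γ ≠ ⊤) :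
    Nonempty (G₁ ≃* Γ ⧸ Subgroup.center Γ) := by
  set π : S →* Γ ⧸ Subgroup.center Γ := (QuotientGroup.mk' _).comp φ with hπ
  have hπs : Function.Surjective π := (QuotientGroup.mk'_surjective _).comp hφ
  have hΓ : commutator Γ = ⊤ := by
    have h1 : Subgroup.map φ (⊤ : Subgroup S) = ⊤ := Subgroup.map_top_of_surjective φ hφ
    rw [commutator_def, ← h1, ← Subgroup.map_commutator]
    rw [commutator_def] at hS
    rw [hS]
  -- central elements map to the identity
  have hcen : ∀ x ∈ Subgroup.center S, π x = 1 := by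
    intro x hx
    have hxq : ∀ g : Γ, ⁅φ x, g⁆ = 1 := by
      intro g
      obtain ⟨s, rfl⟩ := hφ g
      rw [← map_commutatorElement, commutatorElement_eq_one_iff_mul_comm.2 (Subgroup.mem_center_iff.1 hx s).symm, map_one]
    rw [hπ, MonoidHom.comp_apply, QuotientGroup.mk'_apply, QuotientGroup.eq_one_iff, Subgroup.mem_center_iff]
    exact fun g => (commutatorElement_eq_one_iff_mul_comm.1 (hxq g)).symm
  have hle : θ.ker ≤ π.ker := fun x hx => hcen x (hker hx)
  have hnt : π.ker ≠ ⊤ := by
    intro e
    refine hne (eq_top_iff.2 fun g _ => ?_)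
    obtain ⟨s, rfl⟩ := hφ g
    have hs : s ∈ π.ker := e ▸ Subgroup.mem_top s
    rw [MonoidHom.mem_ker, hπ, MonoidHom.comp_apply, QuotientGroup.mk'_apply, QuotientGroup.eq_one_iff] at hs
    exact hs
  have hge : π.ker ≤ θ.ker := by
    rcases ((inferInstance : π.ker.Normal).map θ hθ).eq_bot_or_eq_top with e | e
    · exact fun x hx => (Subgroup.eq_bot_iff_forall _).1 e _ (Subgroup.mem_map_of_mem θ hx)
    · exfalso
      refine hnt (eq_top_iff.2 fun x _ => ?_)
      obtain ⟨y, hy, he⟩ : θ x ∈ Subgroup.map θ π.ker := e ▸ Subgroup.mem_top _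
      have h1 : y⁻¹ * x ∈ θ.ker := by rw [MonoidHom.mem_ker, map_mul, map_inv, he, inv_mul_cancel]
      simpa using mul_mem hy (hle h1)
  have heq : θ.ker = π.ker := le_antisymm hle hge
  exact ⟨((QuotientGroup.quotientKerEquivOfSurjective θ hθ).symm.trans (QuotientGroup.quotientMulEquivOfEq heq)).trans
    (QuotientGroup.quotientKerEquivOfSurjective π hπs)⟩

end Cfsg.Agent.Chev.OrthModel
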