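/-
The representation of Steinberg's group on a quadratic space, from a checked table.
-/
import Cfsg.Agent.Lib.Chev.OrthModel.Check
import Cfsg.Agent.Lib.CurtisTits.UniGenMain
import Cfsg.Prelude.Def_Classical

set_option autoImplicit false
set_option linter.unusedSectionVars false
set_option maxHeartbeats 1000000

namespace Cfsg.Agent.Chev.OrthModel

open Cfsg.Agent.Chev Cfsg.Lie
open Cfsg.Agent.Chev.CT (rhsW okAll Rel)
open scoped Matrix

variable {ι : Type} [Fintype ι] [DecidableEq ι] {K : Type*} [Field K]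

/-- The root element as a matrix. -/
def mX (L : List ι) (T : Tab ι) (r : ℕ) (s : K) : Matrix ι ι K := evS s 0 (elS L T r 1 1 0)

/-- The value of an upper matrix as a quadratic form. -/
def formM (M : List (Ent ι)) (v : ι → K) : K := v ⬝ᵥ (evS (1 : K) 1 M *ᵥ v)

variable {P : Pk} {L : List ι} {M : List (Ent ι)} {T : Tab ι}

theorem evS_elS (hn : L.Nodup) (hc : ∀ a, a ∈ L) (r : ℕ) (c : ℤ) (i j : ℕ) (t u : K) :
    evS t u (elS L T r c i j) = mX L T r ((c : K) * t ^ i * u ^ j) := by
  rw [mX, elS, elS, evS_append, evS_append, evS_one _ _ hn hc, evS_one _ _ hn hc]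
  simp only [evS, List.map_map]
  refine congrArg (1 + ·) (congrArg List.sum (List.map_congr_left fun e _ => ?_))
  simp only [Function.comp, term, Nat.mul_one, Nat.mul_zero, one_pow, mul_one, pow_zero]
  congr 1
  push_cast
  rw [mul_pow, mul_pow, ← pow_mul, ← pow_mul, mul_comm i, mul_comm j]
  ring

theorem evS_flatMap {α : Type*} (t u : K) (l : List α) (f : α → List (Ent ι)) :
    evS t u (l.flatMap f) = (l.map fun a => evS t u (f a)).sum := by
  induction l with
  | nil => simp [evS]
  | cons a l ih => rw [List.flatMap_cons, evS_append, ih, List.map_cons, List.sum_cons]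

theorem evS_elSum (hn : L.Nodup) (hc : ∀ a, a ∈ L) (r : ℕ) (t u : K) :
    evS t u (elSum L T r) = mX L T r (t + u) := by
  rw [mX, elS, elSum, evS_append, evS_append, evS_one _ _ hn hc, evS_one _ _ hn hc, evS_flatMap]
  simp only [evS, List.map_map]
  refine congrArg (1 + ·) (congrArg List.sum (List.map_congr_left fun e _ => ?_))
  simp only [Function.comp, term, Nat.mul_one, Nat.mul_zero, one_pow, mul_one, pow_zero]
  rw [← List.sum_toFinset _ List.nodup_range, List.toFinset_range]
  ext a b
  rw [Matrix.sum_apply]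
  simp only [Matrix.single, Matrix.of_apply]
  by_cases h : e.1 = a ∧ e.2.1 = b
  · simp only [if_pos h, add_pow, Finset.mul_sum, Function.comp, term, Matrix.single, Matrix.of_apply]
    refine Finset.sum_congr rfl fun i _ => ?_
    push_cast
    ring
  · simp only [if_neg h, Finset.sum_const_zero, Function.comp, term, Matrix.single, Matrix.of_apply]

variable (hck : ckAll P L M T = true) (hc : ∀ a, a ∈ L)
include hck

theorem spec : L.Nodup ∧ ∀ r < P.nroots, ckAdd L T r = true ∧ ckForm L M T r = true ∧ ckPosDeg T r = true ∧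
    ∀ s < P.nroots, s ≠ r → s ≠ P.ng r → ckRel P L T r s = true := by
  simp only [ckAll, Bool.and_eq_true, decide_eq_true_eq, List.all_eq_true, Pk.mem_allRoots, Bool.or_eq_true,
    nbeq] at hck
  exact ⟨hck.1, fun r hr => ⟨(hck.2 r hr).1.1.1, (hck.2 r hr).1.1.2, (hck.2 r hr).1.2, fun s hs h1 h2 =>
    ((hck.2 r hr).2 s hs).resolve_left (fun e => e.elim h1 h2)⟩⟩

include hc

theorem mX_add {r : ℕ} (hr : r < P.nroots) (t u : K) : mX L T r t * mX L T r u = mX L T r (t + u) := by
  obtain ⟨hn, h⟩ := spec hck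
  have := evS_eq t u (K := K) (h r hr).1
  rw [evS_mul, evS_elS hn hc, evS_elS hn hc, evS_elSum hn hc] at this
  simpa using this

theorem mX_zero {r : ℕ} (hr : r < P.nroots) : mX L T r (0 : K) = 1 := by
  obtain ⟨hn, h⟩ := spec hck
  have hd := (h r hr).2.2.1
  simp only [ckPosDeg, List.all_eq_true, Nat.blt_eq] at hd
  rw [mX, elS, evS_append, evS_one _ _ hn hc, evS, List.map_map, List.sum_eq_zero, add_zero]
  intro N hN
  obtain ⟨e, he, rfl⟩ := List.mem_map.1 hN
  simp [term, zero_pow (Nat.pos_iff_ne_zero.1 (hd e he))]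

/-- The root element as an invertible matrix. -/
def uX (r : ℕ) (t : K) : GL ι K :=
  if hr : r < P.nroots then
    ⟨mX L T r t, mX L T r (-t), by rw [mX_add hck hc hr, add_neg_cancel, mX_zero hck hc hr],
      by rw [mX_add hck hc hr, neg_add_cancel, mX_zero hck hc hr]⟩
  else 1

theorem coe_uX {r : ℕ} (hr : r < P.nroots) (t : K) : (uX hck hc r t : Matrix ι ι K) = mX L T r t := by
  simp [uX, hr]

theorem preserves {r : ℕ} (hr : r < P.nroots) (t : K) (hM : ∀ e ∈ M, e.2.2.1 = 0 ∧ e.2.2.2.1 = 0) (v : ι → K) :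
    formM M (mX L T r t *ᵥ v) = formM M v := by
  classical
  obtain ⟨hn, h⟩ := spec hck
  have hf := (h r hr).2.1
  simp only [ckForm, Bool.and_eq_true] at hf
  obtain ⟨hf1, hf2⟩ := hf
  set C := mulS (trS (elS L T r 1 1 0)) (mulS M (elS L T r 1 1 0)) ++ negS M
  have hM' : evS t 0 M = evS (1 : K) 1 M := by
    refine congrArg List.sum (List.map_congr_left fun e he => ?_)
    simp [term, hM e he]
  set A := evS t (0 : K) C with hA
  have hsym : ∀ a b, A a b + A b a = 0 := fun a b => by
    have := evS_eq_zero t (0 : K) hf1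
    rw [evS_append, evS_tr] at this
    exact congrFun (congrFun this a) b
  have hdiag : ∀ a, A a a = 0 := fun a => by
    rw [hA, ← evS_nrm]
    simp only [List.all_eq_true] at hf2
    rw [evS]
    generalize nrmS C = N at hf2
    induction N with
    | nil => simp
    | cons e N ih =>
      rw [List.map_cons, List.sum_cons, Matrix.add_apply, ih fun x hx => hf2 x (List.mem_cons_of_mem _ hx), add_zero]
      have he := hf2 e List.mem_cons_self
      by_cases e1 : e.1 = a ∧ e.2.1 = a
      · rw [if_pos (e1.1.trans e1.2.symm), decide_eq_true_eq] at he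
        simp [term, he]
      · simp only [term, Matrix.single, Matrix.of_apply, if_neg e1]
  have hzero : v ⬝ᵥ (A *ᵥ v) = 0 := by
    simp only [dotProduct, Matrix.mulVec, Finset.mul_sum, ← Finset.sum_product', Finset.univ_product_univ]
    refine Finset.sum_involution (fun p _ => (p.2, p.1)) (fun p _ => ?_) (fun p _ hp => ?_)
      (fun _ _ => Finset.mem_univ _) (fun _ _ => rfl)
    · linear_combination v p.1 * v p.2 * hsym p.1 p.2
    · intro e
      obtain ⟨a, b⟩ := p
      have hab : b = a := congrArg Prod.fst e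
      subst hab
      exact hp (by simp [hdiag])
  have e : A = (mX L T r t)ᵀ * (evS (1 : K) 1 M * mX L T r t) - evS (1 : K) 1 M := by
    rw [hA, evS_append, evS_mul, evS_tr, evS_mul, evS_neg, evS_elS hn hc, hM']
    simp [sub_eq_add_neg]
  rw [e, Matrix.sub_mulVec, dotProduct_sub, sub_eq_zero, ← Matrix.mulVec_mulVec, ← Matrix.mulVec_mulVec,
    Matrix.dotProduct_mulVec, Matrix.vecMul_transpose] at hzero
  exact hzero

theorem uX_mem (hM : ∀ e ∈ M, e.2.2.1 = 0 ∧ e.2.2.2.1 = 0) {Q : (ι → K) → K} (hQ : ∀ v, Q v = formM M v) (r : ℕ)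
    (t : K) : uX hck hc r t ∈ Cfsg.isometryGroup K Q := by
  by_cases hr : r < P.nroots
  · intro u v
    show Q ((uX hck hc r t : Matrix ι ι K) *ᵥ u) = Q u
    rw [coe_uX hck hc hr, hQ, hQ, preserves hck hc hr t hM]
  · rw [uX, dif_neg hr]; exact one_mem _

theorem rel_uX {D : ChevalleyDatum} (h : CT.Full D P) : Rel P (okAll P) (fun r t => uX (K := K) hck hc r t) := by
  obtain ⟨hn, hs⟩ := spec hck
  have hlt : ∀ r, okAll P r r = true → r < P.nroots := fun r e => by simpa [okAll] using e
  refine ⟨fun r hr t u => Units.ext ?_, fun r s hrs t u => ?_⟩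
  · simp [coe_uX hck hc (hlt r hr), mX_add hck hc (hlt r hr)]
  · obtain ⟨hok, h1, h2⟩ := CT.cOk_iff.1 hrs
    simp only [okAll, Bool.and_eq_true, Nat.blt_eq] at hok
    obtain ⟨hr, hs'⟩ := hok
    have e : uX (K := K) hck hc s u * uX hck hc r t = uX hck hc r t * uX hck hc s u *
        rhsW P (fun r t => uX (K := K) hck hc r t) r s t u := by
      refine Units.ext ?_
      have := evS_eq t u (K := K) ((hs r hr).2.2.2 s hs' h1 h2)
      rw [evS_mul, evS_prod _ _ hn hc, evS_elS hn hc, evS_elS hn hc, List.map_cons, List.map_cons, List.prod_cons,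
        List.prod_cons, evS_elS hn hc, evS_elS hn hc, List.map_map] at this
      simp only [Int.cast_one, pow_one, pow_zero, mul_one, one_mul] at this
      rw [Units.val_mul, Units.val_mul, Units.val_mul, coe_uX hck hc hr, coe_uX hck hc hs', this, rhsW,
        ← Units.coeHom_apply, map_list_prod, List.map_map, ← mul_assoc]
      refine congrArg (_ * ·) (congrArg List.prod (List.map_congr_left fun c hc' => ?_))
      simp only [Function.comp, Units.coeHom_apply, coe_uX hck hc (h.okD.cterms_lt hr hs' c hc'),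
        evS_elS hn hc]
      push_cast
      rw [neg_pow t]
      ring_nf
    rw [mul_assoc _ (uX hck hc s u), e]
    group

/-- The homomorphism from Steinberg's group. -/
theorem exists_hom {D : ChevalleyDatum} (h : CT.Full D P) (hM : ∀ e ∈ M, e.2.2.1 = 0 ∧ e.2.2.2.1 = 0)
    {Q : (ι → K) → K} (hQ : ∀ v, Q v = formM M v) :
    ∃ ψ : D.SteinbergCover K →* Cfsg.isometryGroup K Q, ∀ r < P.nroots, ∀ t,
      (ψ (D.scGen K r t) : GL ι K) = uX hck hc r t := by
  have R := rel_uX (K := K) hck hc h
  have R' : Rel P (okAll P) (fun r t => (⟨uX hck hc r t, uX_mem hck hc hM hQ r t⟩ : Cfsg.isometryGroup K Q)) :=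
    ⟨fun r hr t u => Subtype.ext (R.add r hr t u), fun r s hrs t u => Subtype.ext (by
      refine (R.comm r s hrs t u).trans ?_
      rw [rhsW, rhsW, ← Subgroup.coe_subtype, map_list_prod, List.map_map]
      rfl)⟩
  obtain ⟨ψ, hψ⟩ := CT.exists_hom_of_rel h R'
  exact ⟨ψ, fun r hr t => congrArg Subtype.val (hψ r hr t)⟩

end Cfsg.Agent.Chev.OrthModel
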