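/-
Every isometry of a split form is reduced to one hyperbolic plane by root elements.
-/
import Mathlib

set_option autoImplicit false
set_option linter.unusedSectionVars false
set_option maxHeartbeats 1000000

namespace Cfsg.Agent.Chev.OrthModel

open scoped Matrix

variable {ι : Type} [Fintype ι] [DecidableEq ι] {n : ℕ} {K : Type*} [Field K]

/-- The opposite basis vector. -/
def opp (a : Fin n × Bool) : Fin n × Bool := (a.1, !a.2)

theorem opp_opp (a : Fin n × Bool) : opp (opp a) = a := by simp [opp]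

theorem opp_fst (a : Fin n × Bool) : (opp a).1 = a.1 := rfl

theorem opp_ne (a : Fin n × Bool) : opp a ≠ a := fun e => by
  have := congrArg Prod.snd e
  simp [opp] at this

variable (v : Fin n × Bool → ι)

/-- A long root element. -/
def opM (a b : Fin n × Bool) (t : K) : Matrix ι ι K :=
  1 + Matrix.single (v a) (v (opp b)) t + Matrix.single (v b) (v (opp a)) (-t)

/-- A short root element. -/
def shM (a : Fin n × Bool) (z : ι) (t : K) : Matrix ι ι K :=
  1 + Matrix.single z (v (opp a)) t + Matrix.single (v a) (v (opp a)) (-t ^ 2) + Matrix.single (v a) z (-(2 * t))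

/-- The hypotheses: a split form and a group containing the root elements. -/
structure Split (Q : (ι → K) → K) (E : Subgroup (GL ι K)) : Prop where
  inj : Function.Injective v
  one : ∀ z z', z ∉ Set.range v → z' ∉ Set.range v → z = z'
  hQ : ∀ w, Q w = ∑ i : Fin n, w (v (i, true)) * w (v (i, false)) +
    ∑ z : ι, if (∃ a, v a = z) then 0 else w z ^ 2
  iso : ∀ g ∈ E, ∀ w, Q ((g : Matrix ι ι K) *ᵥ w) = Q w
  op : ∀ a b t, a.1 ≠ b.1 → ∃ g ∈ E, (g : Matrix ι ι K) = opM v a b t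
  sh : ∀ a z t, z ∉ Set.range v → ∃ g ∈ E, (g : Matrix ι ι K) = shM v a z t

/-- Basis vector. -/
def δ (i : ι) : ι → K := Pi.single i 1

/-- The planes outside `S` are fixed. -/
def FixOut (S : Finset (Fin n)) (g : GL ι K) : Prop :=
  ∀ a : Fin n × Bool, a.1 ∉ S → (g : Matrix ι ι K) *ᵥ δ (v a) = δ (v a)

/-- Supported on the planes of `S`. -/
def Supp (S : Finset (Fin n)) (w : ι → K) : Prop := ∀ a : Fin n × Bool, a.1 ∉ S → w (v a) = 0

theorem fixOut_mul {S : Finset (Fin n)} {g h : GL ι K} (hg : FixOut v S g) (hh : FixOut v S h) :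
    FixOut v S (g * h) := fun a ha => by
  rw [Units.val_mul, ← Matrix.mulVec_mulVec, hh a ha, hg a ha]

theorem fixOut_one {S : Finset (Fin n)} : FixOut v S (1 : GL ι K) := fun a _ => by simp

variable {v} {Q : (ι → K) → K} {E : Subgroup (GL ι K)}

theorem opM_mulVec (a b : Fin n × Bool) (t : K) (w : ι → K) :
    opM v a b t *ᵥ w = w + Pi.single (v a) (t * w (v (opp b))) + Pi.single (v b) (-t * w (v (opp a))) := by
  ext i
  simp [opM, Matrix.add_mulVec, Matrix.single_mulVec, Pi.add_apply, Pi.single_apply, Function.update_apply]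

theorem shM_mulVec (a : Fin n × Bool) (z : ι) (t : K) (w : ι → K) :
    shM v a z t *ᵥ w = w + Pi.single z (t * w (v (opp a))) + Pi.single (v a) (-t ^ 2 * w (v (opp a))) +
      Pi.single (v a) (-(2 * t) * w z) := by
  ext i
  simp [shM, Matrix.add_mulVec, Matrix.single_mulVec, Pi.add_apply, Pi.single_apply, Function.update_apply]

variable (H : Split v Q E)
include H

theorem vne {a b : Fin n × Bool} (h : a ≠ b) : v a ≠ v b := fun e => h (H.inj e)

theorem polar (x y : ι → K) : Q (x + y) - Q x - Q y =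
    (∑ i : Fin n, (x (v (i, true)) * y (v (i, false)) + x (v (i, false)) * y (v (i, true)))) +
      ∑ z : ι, if (∃ a, v a = z) then 0 else 2 * (x z * y z) := by
  simp only [H.hQ, Pi.add_apply]
  rw [show ∀ a b c d e f : K, a + b - (c + d) - (e + f) = (a - c - e) + (b - d - f) by intros; ring,
    ← Finset.sum_sub_distrib, ← Finset.sum_sub_distrib, ← Finset.sum_sub_distrib, ← Finset.sum_sub_distrib]
  congr 1
  · exact Finset.sum_congr rfl fun i _ => by ring
  · exact Finset.sum_congr rfl fun z _ => by split_ifs <;> ring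

theorem polar_delta (x : ι → K) (a : Fin n × Bool) : Q (x + δ (v a)) - Q x - Q (δ (v a)) = x (v (opp a)) := by
  rw [polar H]
  have hz : ∀ z : ι, (if (∃ a, v a = z) then (0 : K) else 2 * (x z * (δ (v a) : ι → K) z)) = 0 := fun z => by
    split_ifs with h
    · rfl
    · rw [δ, Pi.single_eq_of_ne (fun e => h ⟨a, e.symm⟩), mul_zero, mul_zero]
  rw [Finset.sum_eq_zero fun z _ => hz z, add_zero, Finset.sum_eq_single a.1]
  · obtain ⟨i, s⟩ := a
    cases s <;> simp [δ, Pi.single_apply, H.inj.eq_iff, opp]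
  · intro i _ hi
    have : ∀ s, (δ (v a) : ι → K) (v (i, s)) = 0 := fun s => by
      rw [δ, Pi.single_eq_of_ne (vne H fun e => hi (congrArg Prod.fst e))]
    simp [this]
  · simp

theorem Q_delta (a : Fin n × Bool) : Q (δ (v a) : ι → K) = 0 := by
  rw [H.hQ, Finset.sum_eq_zero, Finset.sum_eq_zero, add_zero]
  · intro z _
    split_ifs with h
    · rfl
    · rw [δ, Pi.single_eq_of_ne (fun e => h ⟨a, e.symm⟩)]; ring
  · intro i _
    have : (δ (v a) : ι → K) (v (i, true)) = 0 ∨ (δ (v a) : ι → K) (v (i, false)) = 0 := by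
      by_cases h : a = (i, true)
      · right; rw [δ, Pi.single_eq_of_ne (vne H (by rw [h]; simp))]
      · left; rw [δ, Pi.single_eq_of_ne (vne H (Ne.symm h))]
    rcases this with e | e <;> simp [e]

theorem op_fix {a b c : Fin n × Bool} (t : K) (h1 : c ≠ opp b) (h2 : c ≠ opp a) :
    opM v a b t *ᵥ δ (v c) = δ (v c) := by
  rw [opM_mulVec]
  simp [δ, Pi.single_eq_of_ne (vne H (Ne.symm h1)), Pi.single_eq_of_ne (vne H (Ne.symm h2))]

theorem sh_fix {a c : Fin n × Bool} {z : ι} (hz : z ∉ Set.range v) (t : K) (h2 : c ≠ opp a) :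
    shM v a z t *ᵥ δ (v c) = δ (v c) := by
  rw [shM_mulVec]
  simp [δ, Pi.single_eq_of_ne (vne H (Ne.symm h2)), Pi.single_eq_of_ne (show z ≠ v c from fun e => hz ⟨c, e.symm⟩)]

theorem iso_image {g : GL ι K} (hg : ∀ w, Q ((g : Matrix ι ι K) *ᵥ w) = Q w) (x y : ι → K) :
    Q ((g : Matrix ι ι K) *ᵥ x + (g : Matrix ι ι K) *ᵥ y) - Q ((g : Matrix ι ι K) *ᵥ x) -
      Q ((g : Matrix ι ι K) *ᵥ y) = Q (x + y) - Q x - Q y := by
  rw [← Matrix.mulVec_add, hg, hg, hg]

theorem supp_image {S : Finset (Fin n)} {g : GL ι K} (hg : ∀ w, Q ((g : Matrix ι ι K) *ᵥ w) = Q w)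
    (hf : FixOut v S g) {x : ι → K} (hx : Supp v S x) : Supp v S ((g : Matrix ι ι K) *ᵥ x) := by
  intro a ha
  have h1 := iso_image H hg x (δ (v (opp a)))
  rw [hf (opp a) ha, polar_delta H, polar_delta H, opp_opp] at h1
  rw [h1]
  exact hx a ha

theorem singular_supp {w : ι → K} {k : Fin n} (hw : Q w = 0) (h0 : ∀ a : Fin n × Bool, a.1 ≠ k → w (v a) = 0) :
    w (v (k, true)) * w (v (k, false)) + (∑ z : ι, if (∃ a, v a = z) then 0 else w z ^ 2) = 0 := by
  rw [H.hQ, Finset.sum_eq_single k (fun i _ hi => by rw [h0 (i, true) hi, zero_mul]) (by simp)] at hw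
  exact hw

theorem ext_coords {x y : ι → K} (h1 : ∀ a, x (v a) = y (v a)) (h2 : ∀ z, z ∉ Set.range v → x z = y z) : x = y := by
  funext i
  by_cases h : i ∈ Set.range v
  · obtain ⟨a, rfl⟩ := h; exact h1 a
  · exact h2 i h

/-- Kill all coordinates but one. -/
theorem kill {S : Finset (Fin n)} {p : Fin n × Bool} (hp : p.1 ∈ S) :
    ∀ w : ι → K, Supp v S w → w (v p) = 1 → Q w = 0 →
    ∃ e ∈ E, FixOut v S e ∧ (e : Matrix ι ι K) *ᵥ δ (v (opp p)) = δ (v (opp p)) ∧
      (e : Matrix ι ι K) *ᵥ w = δ (v p) := by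
  classical
  -- clear the other planes
  have step : ∀ T : Finset (Fin n × Bool), (∀ x ∈ T, x.1 ∈ S ∧ x.1 ≠ p.1) → ∀ w : ι → K, w (v p) = 1 →
      ∃ e ∈ E, FixOut v S e ∧ (e : Matrix ι ι K) *ᵥ δ (v (opp p)) = δ (v (opp p)) ∧
        ((e : Matrix ι ι K) *ᵥ w) (v p) = 1 ∧ (∀ x ∈ T, ((e : Matrix ι ι K) *ᵥ w) (v x) = 0) ∧
        ∀ x, x ∉ T → x ≠ opp p → ((e : Matrix ι ι K) *ᵥ w) (v x) = w (v x) := by
    intro T
    induction T using Finset.induction_on with
    | empty =>
      intro _ w hw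
      exact ⟨1, one_mem _, fixOut_one v, by simp, by simpa using hw, by simp, by simp⟩
    | insert x T hx ih =>
      intro hT w hw
      obtain ⟨hxS, hxp⟩ := hT x (Finset.mem_insert_self _ _)
      obtain ⟨e, he, hf, hfo, h1, h0, hsame⟩ := ih (fun y hy => hT y (Finset.mem_insert_of_mem hy)) w hw
      set w' := (e : Matrix ι ι K) *ᵥ w
      obtain ⟨g, hg, hgM⟩ := H.op x (opp p) (-w' (v x)) hxp
      have hxne : ∀ y : Fin n × Bool, y.1 = p.1 → v x ≠ v y := fun y hy =>
        vne H fun e => hxp (by rw [e, hy])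
      have hval : ((g * e : GL ι K) : Matrix ι ι K) *ᵥ w = w' + Pi.single (v x) (-w' (v x) * 1) +
          Pi.single (v (opp p)) (w' (v x) * w' (v (opp x))) := by
        rw [Units.val_mul, ← Matrix.mulVec_mulVec, hgM, opM_mulVec, opp_opp, neg_neg]
        show w' + Pi.single (v x) (-w' (v x) * w' (v p)) + _ = _
        rw [h1]
      refine ⟨g * e, mul_mem hg he, fixOut_mul v (fun a ha => ?_) hf, ?_, ?_, fun y hy => ?_, fun y hy hyp => ?_⟩
      · rw [hgM]
        refine op_fix H _ ?_ ?_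
        · rintro rfl; exact ha (by simpa [opp] using hp)
        · rintro rfl; exact ha hxS
      · rw [Units.val_mul, ← Matrix.mulVec_mulVec, hfo, hgM]
        refine op_fix H _ (fun e => opp_ne p (e.trans (opp_opp p))) (fun e => hxp ?_)
        have := congrArg Prod.fst e
        simpa [opp] using this.symm
      · rw [hval]
        simp [h1, Pi.single_eq_of_ne (hxne p rfl).symm, Pi.single_eq_of_ne (vne H (opp_ne p).symm)]
      · rw [hval]
        rcases Finset.mem_insert.1 hy with rfl | hy'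
        · simp [Pi.single_eq_of_ne (hxne (opp p) rfl)]
        · have hyx : y ≠ x := fun e => hx (e ▸ hy')
          have hyo : y ≠ opp p := fun e => (hT y (Finset.mem_insert_of_mem hy')).2 (by rw [e, opp_fst])
          simp [h0 y hy', Pi.single_eq_of_ne (vne H hyx), Pi.single_eq_of_ne (vne H hyo)]
      · rw [hval]
        simp only [Finset.mem_insert, not_or] at hy
        simp [hsame y hy.2 hyp, Pi.single_eq_of_ne (vne H hy.1), Pi.single_eq_of_ne (vne H hyp)]
  intro w hsup hw1 hQw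
  obtain ⟨e, he, hf, hfo, h1, h0, hsame⟩ := step (Finset.univ.filter fun x => x.1 ∈ S ∧ x.1 ≠ p.1)
    (fun x hx => (Finset.mem_filter.1 hx).2) w hw1
  set w' := (e : Matrix ι ι K) *ᵥ w
  have h0' : ∀ a : Fin n × Bool, a.1 ≠ p.1 → w' (v a) = 0 := fun a ha => by
    by_cases haS : a.1 ∈ S
    · exact h0 a (Finset.mem_filter.2 ⟨Finset.mem_univ _, haS, ha⟩)
    · rw [hsame a (fun h => haS (Finset.mem_filter.1 h).2.1) (fun e => ha (by rw [e, opp_fst]))]
      exact hsup a haS
  have hQ' : Q w' = 0 := by rw [H.iso e he, hQw]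
  -- clear the anisotropic coordinate
  obtain ⟨g, hg, hgf, hgo, hgp, hgz, hgk⟩ : ∃ g ∈ E, FixOut v S g ∧ (g : Matrix ι ι K) *ᵥ δ (v (opp p)) = δ (v (opp p)) ∧
      ((g : Matrix ι ι K) *ᵥ w') (v p) = 1 ∧ (∀ z, z ∉ Set.range v → ((g : Matrix ι ι K) *ᵥ w') z = 0) ∧
      (∀ a : Fin n × Bool, a.1 ≠ p.1 → ((g : Matrix ι ι K) *ᵥ w') (v a) = 0) := by
    by_cases hz : ∃ z, z ∉ Set.range v
    · obtain ⟨z, hz⟩ := hz
      obtain ⟨g, hg, hgM⟩ := H.sh (opp p) z (-w' z) hz
      have hne : ∀ a, v a ≠ z := fun a e => hz ⟨a, e⟩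
      refine ⟨g, hg, fun a ha => ?_, ?_, ?_, fun z' hz' => ?_, fun a ha => ?_⟩
      · rw [hgM]
        refine sh_fix H hz _ ?_
        rw [opp_opp]; rintro rfl; exact ha hp
      · rw [hgM]
        exact sh_fix H hz _ (by rw [opp_opp]; exact opp_ne p)
      · rw [hgM, shM_mulVec]
        simp [h1, Pi.single_eq_of_ne (hne p), Pi.single_eq_of_ne (vne H (opp_ne p).symm)]
      · obtain rfl := H.one z z' hz hz'
        rw [hgM, shM_mulVec]
        simp [opp_opp, h1, Pi.single_eq_of_ne (hne (opp p)).symm]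
      · rw [hgM, shM_mulVec]
        have hao : a ≠ opp p := fun e => ha (by rw [e, opp_fst])
        simp [h0' a ha, Pi.single_eq_of_ne (hne a), Pi.single_eq_of_ne (vne H hao)]
    · push Not at hz
      exact ⟨1, one_mem _, fixOut_one v, by simp, by simpa using h1, fun z hz' => absurd (hz z) hz', by simpa using h0'⟩
  refine ⟨g * e, mul_mem hg he, fixOut_mul v hgf hf, by rw [Units.val_mul, ← Matrix.mulVec_mulVec, hfo, hgo], ?_⟩
  rw [Units.val_mul, ← Matrix.mulVec_mulVec]
  set w'' := (g : Matrix ι ι K) *ᵥ w' with hw''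
  have hQ'' : Q w'' = 0 := by rw [hw'', H.iso g hg, hQ']
  have hopp : w'' (v (opp p)) = 0 := by
    have h2 := singular_supp H hQ'' hgk
    rw [Finset.sum_eq_zero (fun z _ => by
      split_ifs with h
      · rfl
      · rw [hgz z (fun ⟨a, e⟩ => h ⟨a, e⟩)]; ring), add_zero] at h2
    obtain ⟨k, s⟩ := p
    cases s <;> simpa [opp, hgp] using h2
  refine ext_coords H (fun a => ?_) fun z hz => ?_
  · by_cases ha : a.1 = p.1
    · by_cases hap : a = p
      · rw [hap, hgp, δ, Pi.single_eq_same]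
      · have : a = opp p := by
          obtain ⟨i, s⟩ := a; obtain ⟨k, u⟩ := p
          simp only at ha; subst ha
          cases s <;> cases u <;> simp_all [opp]
        rw [this, hopp, δ, Pi.single_eq_of_ne (vne H (opp_ne p))]
    · rw [hgk a ha, δ, Pi.single_eq_of_ne (vne H fun e => ha (by rw [e]))]
  · rw [hgz z hz, δ, Pi.single_eq_of_ne fun e => hz ⟨p, e.symm⟩]

/-- Move a singular vector to a basis vector. -/
theorem move {S : Finset (Fin n)} {k : Fin n} (hk : k ∈ S) (hS : 2 ≤ S.card) {w : ι → K} (hsup : Supp v S w)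
    (hw : Q w = 0) (hw0 : w ≠ 0) :
    ∃ e ∈ E, FixOut v S e ∧ (e : Matrix ι ι K) *ᵥ w = δ (v (k, true)) := by
  classical
  obtain ⟨j, hj, hjk⟩ : ∃ j ∈ S, j ≠ k := Finset.exists_mem_ne (by omega) k
  set a : Fin n × Bool := (k, true) with ha
  have mk : ∀ (p q : Fin n × Bool) (t : K), p.1 ∈ S → q.1 ∈ S → p.1 ≠ q.1 → ∃ e ∈ E, FixOut v S e ∧
      ∀ w, (e : Matrix ι ι K) *ᵥ w = w + Pi.single (v p) (t * w (v (opp q))) + Pi.single (v q) (-t * w (v (opp p))) := by
    intro p q t hpS hqS hpq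
    obtain ⟨g, hg, hgM⟩ := H.op p q t hpq
    refine ⟨g, hg, fun c hc => ?_, fun w => by rw [hgM, opM_mulVec]⟩
    rw [hgM]
    exact op_fix H _ (fun e => hc (by rw [e, opp_fst]; exact hqS)) (fun e => hc (by rw [e, opp_fst]; exact hpS))
  have supp_step : ∀ {e : GL ι K}, e ∈ E → FixOut v S e → ∀ {x : ι → K}, Supp v S x →
      Supp v S ((e : Matrix ι ι K) *ᵥ x) := fun he hf _ hx => supp_image H (H.iso _ he) hf hx
  -- a non-zero coordinate at `a`
  obtain ⟨e₁, he₁, hf₁, h1⟩ : ∃ e ∈ E, FixOut v S e ∧ ((e : Matrix ι ι K) *ᵥ w) (v a) ≠ 0 := by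
    by_cases hwa : w (v a) ≠ 0
    · exact ⟨1, one_mem _, fixOut_one v, by simpa using hwa⟩
    push Not at hwa
    have viaX : ∀ u : ι → K, u (v a) = 0 → ∀ x : Fin n × Bool, x.1 ∈ S → x.1 ≠ k → u (v x) ≠ 0 →
        ∃ e ∈ E, FixOut v S e ∧ ((e : Matrix ι ι K) *ᵥ u) (v a) ≠ 0 := by
      intro u hu x hxS hxk hux
      obtain ⟨e, he, hf, hv'⟩ := mk a (opp x) 1 hk hxS (fun e => hxk e.symm)
      refine ⟨e, he, hf, ?_⟩
      rw [hv']
      have : v a ≠ v (opp x) := vne H fun e => hxk (by rw [← opp_fst x, ← e])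
      simp [opp_opp, hu, hux, Pi.single_eq_of_ne this]
    by_cases hx : ∃ x : Fin n × Bool, x.1 ≠ k ∧ w (v x) ≠ 0
    · obtain ⟨x, hxk, hx0⟩ := hx
      exact viaX w hwa x (by by_contra h; exact hx0 (hsup x h)) hxk hx0
    · push Not at hx
      have h2 := singular_supp H hw hx
      rw [← ha, hwa, zero_mul, zero_add] at h2
      have hzc : ∀ z, z ∉ Set.range v → w z = 0 := fun z hz => by
        rw [Finset.sum_eq_single z (fun z' _ hz' => if_pos (by
          by_contra h
          exact hz' (H.one z' z h hz))) (by simp), if_neg (fun h : ∃ a, v a = z => hz h)] at h2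
        exact pow_eq_zero_iff two_ne_zero |>.1 h2
      have hb : w (v (k, false)) ≠ 0 := fun hb => hw0 (ext_coords H (fun c => by
        obtain ⟨i, s⟩ := c
        by_cases hi : i = k
        · subst hi
          cases s
          · simpa using hb
          · simpa [ha] using hwa
        · simpa using hx (i, s) hi) (fun z hz => by simpa using hzc z hz))
      obtain ⟨e, he, hf, hv'⟩ := mk (j, true) a 1 hj hk hjk
      set u := (e : Matrix ι ι K) *ᵥ w with hu
      have hua : u (v a) = 0 := by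
        rw [hu, hv']
        have : v a ≠ v (j, true) := vne H fun e => hjk (congrArg Prod.fst e).symm
        simp [hwa, Pi.single_eq_of_ne this, hx (opp (j, true)) hjk]
      have huj : u (v (j, true)) ≠ 0 := by
        rw [hu, hv']
        have : v (j, true) ≠ v a := vne H fun e => hjk (congrArg Prod.fst e)
        rw [Pi.add_apply, Pi.add_apply, Pi.single_eq_same, Pi.single_eq_of_ne this, hx (j, true) hjk, zero_add,
          add_zero, one_mul]
        simpa [opp, ha] using hb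
      obtain ⟨e', he', hf', h'⟩ := viaX u hua (j, true) hj hjk huj
      exact ⟨e' * e, mul_mem he' he, fixOut_mul v hf' hf, by rw [Units.val_mul, ← Matrix.mulVec_mulVec]; exact h'⟩
  -- make it one
  set w₁ := (e₁ : Matrix ι ι K) *ᵥ w with hw₁
  obtain ⟨e₂, he₂, hf₂, hv₂⟩ := mk (j, true) (opp a) ((1 - w₁ (v (j, true))) / w₁ (v a)) hj hk hjk
  set w₂ := (e₂ : Matrix ι ι K) *ᵥ w₁ with hw₂
  have h2a : w₂ (v a) = w₁ (v a) := by
    rw [hw₂, hv₂]
    simp [Pi.single_eq_of_ne (vne H fun e : a = (j, true) => hjk (congrArg Prod.fst e).symm),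
      Pi.single_eq_of_ne (vne H (opp_ne a).symm)]
  have h2j : w₂ (v (j, true)) = 1 := by
    rw [hw₂, hv₂]
    simp [opp_opp, div_mul_cancel₀ _ h1, Pi.single_eq_of_ne (vne H fun e : (j, true) = opp a => hjk (congrArg Prod.fst e))]
  obtain ⟨e₃, he₃, hf₃, hv₃⟩ := mk a (opp (j, true)) (1 - w₂ (v a)) hk hj (fun e => hjk e.symm)
  set w₃ := (e₃ : Matrix ι ι K) *ᵥ w₂ with hw₃
  have h3 : w₃ (v a) = 1 := by
    rw [hw₃, hv₃]
    simp [opp_opp, h2j, Pi.single_eq_of_ne (vne H fun e : a = opp (j, true) => hjk (congrArg Prod.fst e).symm)]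
  have hQ₃ : Q w₃ = 0 := by rw [hw₃, H.iso _ he₃, hw₂, H.iso _ he₂, hw₁, H.iso _ he₁, hw]
  obtain ⟨e₄, he₄, hf₄, -, h4⟩ := kill H (p := a) hk w₃
    (supp_step he₃ hf₃ (supp_step he₂ hf₂ (supp_step he₁ hf₁ hsup))) h3 hQ₃
  refine ⟨e₄ * (e₃ * (e₂ * e₁)), mul_mem he₄ (mul_mem he₃ (mul_mem he₂ he₁)),
    fixOut_mul v hf₄ (fixOut_mul v hf₃ (fixOut_mul v hf₂ hf₁)), ?_⟩
  simp only [Units.val_mul, ← Matrix.mulVec_mulVec]
  exact h4

theorem image_ne (g : GL ι K) (i : ι) : (g : Matrix ι ι K) *ᵥ (δ i : ι → K) ≠ 0 := by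
  intro e
  have := congrArg (((g⁻¹ : GL ι K) : Matrix ι ι K) *ᵥ ·) e
  simp only [Matrix.mulVec_mulVec, ← Units.val_mul, inv_mul_cancel, Units.val_one, Matrix.one_mulVec,
    Matrix.mulVec_zero] at this
  simpa [δ] using congrFun this i

theorem supp_delta {S : Finset (Fin n)} {a : Fin n × Bool} (ha : a.1 ∈ S) : Supp v S (δ (v a) : ι → K) :=
  fun b hb => by rw [δ, Pi.single_eq_of_ne (vne H fun e => hb (by rw [e]; exact ha))]

theorem remove {S : Finset (Fin n)} {k : Fin n} (hk : k ∈ S) (hS : 2 ≤ S.card) {g : GL ι K}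
    (hg : ∀ w, Q ((g : Matrix ι ι K) *ᵥ w) = Q w) (hf : FixOut v S g) :
    ∃ e ∈ E, FixOut v (S.erase k) (e * g) := by
  obtain ⟨e, he, hfe, h1⟩ := move H hk hS (supp_image H hg hf (supp_delta H (a := (k, true)) hk))
    (by rw [hg, Q_delta H]) (image_ne H g _)
  have hiso : ∀ w, Q (((e * g : GL ι K) : Matrix ι ι K) *ᵥ w) = Q w := fun w => by
    rw [Units.val_mul, ← Matrix.mulVec_mulVec, H.iso e he, hg]
  have hfeg := fixOut_mul v hfe hf
  set w := ((e * g : GL ι K) : Matrix ι ι K) *ᵥ δ (v (k, false)) with hw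
  have hw1 : w (v (k, false)) = 1 := by
    have h2 := iso_image H hiso (δ (v (k, false))) (δ (v (k, true)))
    rw [show ((e * g : GL ι K) : Matrix ι ι K) *ᵥ δ (v (k, true)) = δ (v (k, true)) by
      rw [Units.val_mul, ← Matrix.mulVec_mulVec, h1], ← hw, polar_delta H, polar_delta H] at h2
    simpa [opp, δ] using h2
  obtain ⟨e', he', hfe', hfo, h2⟩ := kill H (p := (k, false)) hk w (supp_image H hiso hfeg (supp_delta H (a := (k, false)) hk))
    hw1 (by rw [hw, hiso, Q_delta H])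
  refine ⟨e' * e, mul_mem he' he, fun a ha => ?_⟩
  rw [mul_assoc, Units.val_mul, ← Matrix.mulVec_mulVec]
  by_cases hak : a.1 = k
  · obtain ⟨i, s⟩ := a
    simp only at hak; subst hak
    cases s
    · exact h2
    · rw [Units.val_mul, ← Matrix.mulVec_mulVec, h1]; exact hfo
  · have haS : a.1 ∉ S := fun h => ha (Finset.mem_erase.2 ⟨hak, h⟩)
    rw [hfeg a haS]; exact hfe' a haS

/-- All planes but one can be fixed. -/
theorem reduce (k : Fin n) {g : GL ι K} (hg : ∀ w, Q ((g : Matrix ι ι K) *ᵥ w) = Q w) :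
    ∃ e ∈ E, FixOut v {k} (e * g) := by
  classical
  suffices key : ∀ m (S : Finset (Fin n)), S.card = m → k ∈ S → ∀ g : GL ι K,
      (∀ w, Q ((g : Matrix ι ι K) *ᵥ w) = Q w) → FixOut v S g → ∃ e ∈ E, FixOut v {k} (e * g) from
    key _ Finset.univ rfl (Finset.mem_univ _) g hg (fun a ha => absurd (Finset.mem_univ _) ha)
  intro m
  induction m using Nat.strong_induction_on with
  | _ m ih =>
    intro S hS hkS g hg hf
    by_cases h2 : S.card ≤ 1
    · obtain rfl : S = {k} := Finset.eq_singleton_iff_unique_mem.2 ⟨hkS, fun x hx => Finset.card_le_one.1 h2 x hx k hkS⟩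
      exact ⟨1, one_mem _, by rw [one_mul]; exact hf⟩
    · obtain ⟨j, hj, hjk⟩ := Finset.exists_mem_ne (by omega) k (s := S)
      obtain ⟨e, he, hfe⟩ := remove H hj (by omega) hg hf
      obtain ⟨e', he', hfe'⟩ := ih _ (by rw [← hS]; exact Finset.card_erase_lt_of_mem hj) _ rfl
        (Finset.mem_erase.2 ⟨hjk.symm, hkS⟩) (e * g) (fun w => by
          rw [Units.val_mul, ← Matrix.mulVec_mulVec, H.iso e he, hg]) hfe
      exact ⟨e' * e, mul_mem he' he, by rw [mul_assoc]; exact hfe'⟩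

end Cfsg.Agent.Chev.OrthModel
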