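/-
Isometries fixing all planes but one.
-/
import Cfsg.Agent.Lib.Chev.OrthModel.Reduce

set_option autoImplicit false
set_option linter.unusedSectionVars false
set_option maxHeartbeats 1000000

namespace Cfsg.Agent.Chev.OrthModel

open scoped Matrix

variable {ι : Type} [Fintype ι] [DecidableEq ι] {n : ℕ} {K : Type*} [Field K]
variable {v : Fin n × Bool → ι} {Q : (ι → K) → K} {E : Subgroup (GL ι K)} (H : Split v Q E)
include H

theorem supp_off {k : Fin n} {g : GL ι K} (hg : ∀ w, Q ((g : Matrix ι ι K) *ᵥ w) = Q w) (hf : FixOut v {k} g)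
    (a : Fin n × Bool) (ha : a.1 = k) (b : Fin n × Bool) (hb : b.1 ≠ k) :
    ((g : Matrix ι ι K) *ᵥ δ (v a)) (v b) = 0 :=
  supp_image H hg hf (supp_delta H (by simp [ha])) b (by simpa using hb)

theorem pair_eq {k : Fin n} {g : GL ι K} (hg : ∀ w, Q ((g : Matrix ι ι K) *ᵥ w) = Q w) {c : K}
    (hc : (g : Matrix ι ι K) *ᵥ δ (v (k, true)) = c • δ (v (k, true))) :
    c * ((g : Matrix ι ι K) *ᵥ δ (v (k, false))) (v (k, false)) = 1 := by
  have h2 := iso_image H hg (δ (v (k, false))) (δ (v (k, true)))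
  rw [polar_delta H, polar H, hc, Finset.sum_eq_single k, Finset.sum_eq_zero, add_zero] at h2
  · simpa [δ, opp, Pi.single_eq_of_ne (vne H (a := (k, false)) (b := (k, true)) (by simp)), mul_comm] using h2
  · intro z _
    split_ifs with h
    · rfl
    · simp [δ, Pi.single_eq_of_ne (show z ≠ v (k, true) from fun e => h ⟨_, e.symm⟩)]
  · intro i _ hi
    simp [δ, Pi.single_eq_of_ne (vne H (fun e : ((i, true) : Fin n × Bool) = (k, true) => hi (congrArg Prod.fst e))),
      Pi.single_eq_of_ne (vne H (fun e : ((i, false) : Fin n × Bool) = (k, true) => hi (congrArg Prod.fst e)))]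
  · simp

/-- Without an anisotropic coordinate: monomial. -/
theorem plane_even (hno : ∀ z, z ∈ Set.range v) {k : Fin n} {g : GL ι K}
    (hg : ∀ w, Q ((g : Matrix ι ι K) *ᵥ w) = Q w) (hf : FixOut v {k} g) :
    ∃ c : K, c ≠ 0 ∧ (((g : Matrix ι ι K) *ᵥ δ (v (k, true)) = c • δ (v (k, true)) ∧
        (g : Matrix ι ι K) *ᵥ δ (v (k, false)) = c⁻¹ • δ (v (k, false))) ∨
      ((g : Matrix ι ι K) *ᵥ δ (v (k, true)) = c • δ (v (k, false)) ∧
        (g : Matrix ι ι K) *ᵥ δ (v (k, false)) = c⁻¹ • δ (v (k, true)))) := by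
  have hz : ∀ z, ¬ z ∉ Set.range v := fun z h => h (hno z)
  have key : ∀ s, ∃ u : Bool, ∃ c : K, (g : Matrix ι ι K) *ᵥ δ (v (k, s)) = c • δ (v (k, u)) := by
    intro s
    set w := (g : Matrix ι ι K) *ᵥ δ (v (k, s)) with hw
    have h0 := singular_supp H (w := w) (k := k) (by rw [hw, hg, Q_delta H]) (supp_off H hg hf _ rfl)
    rw [Finset.sum_eq_zero fun z _ => if_pos (by simpa using hno z), add_zero, mul_eq_zero] at h0
    have hext : ∀ u : Bool, w (v (k, !u)) = 0 → w = w (v (k, u)) • δ (v (k, u)) := fun u hu =>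
      ext_coords H (fun b => by
        by_cases hb : b.1 = k
        · obtain ⟨i, t⟩ := b
          simp only at hb; subst hb
          by_cases htu : t = u
          · subst htu; simp [δ]
          · have : t = !u := by cases t <;> cases u <;> simp_all
            subst this
            simp [δ, hu, Pi.single_eq_of_ne (vne H (a := (i, !u)) (b := (i, u)) (by simp))]
        · rw [Pi.smul_apply, δ, Pi.single_eq_of_ne (vne H fun e => hb (by rw [e])), smul_zero]
          exact supp_off H hg hf _ rfl b hb) fun z h => absurd h (hz z)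
    rcases h0 with h | h
    · exact ⟨false, _, hext false h⟩
    · exact ⟨true, _, hext true h⟩
  obtain ⟨u, c, hc⟩ := key true
  obtain ⟨u', c', hc'⟩ := key false
  have h2 := iso_image H hg (δ (v (k, false))) (δ (v (k, true)))
  rw [polar_delta H, polar H, hc, hc', Finset.sum_eq_single k, Finset.sum_eq_zero fun z _ => if_pos (by simpa using hno z),
    add_zero] at h2
  · have hne : v (k, true) ≠ v (k, false) := vne H (by simp)
    cases u <;> cases u' <;>
      simp [δ, opp, Pi.single_eq_of_ne hne, Pi.single_eq_of_ne hne.symm] at h2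
    · exact ⟨c, fun e => by simp [e] at h2, Or.inr ⟨hc, by rw [hc', eq_inv_of_mul_eq_one_left h2]⟩⟩
    · exact ⟨c, fun e => by simp [e] at h2, Or.inl ⟨hc, by rw [hc', eq_inv_of_mul_eq_one_left h2]⟩⟩
  · intro i _ hi
    simp [δ, fun u s => Pi.single_eq_of_ne (M := fun _ => K)
      (vne H (fun e : ((i, u) : Fin n × Bool) = (k, s) => hi (congrArg Prod.fst e)))]
  · simp

/-- With an anisotropic coordinate: diagonal up to root elements. -/
theorem plane_odd {z : ι} (hz : z ∉ Set.range v) {k : Fin n} {g : GL ι K}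
    (hg : ∀ w, Q ((g : Matrix ι ι K) *ᵥ w) = Q w) (hf : FixOut v {k} g) :
    ∃ e ∈ E, FixOut v {k} (e * g) ∧ ∃ c d : K, c ≠ 0 ∧ d * d = 1 ∧
      ((e * g : GL ι K) : Matrix ι ι K) *ᵥ δ (v (k, true)) = c • δ (v (k, true)) ∧
      ((e * g : GL ι K) : Matrix ι ι K) *ᵥ δ (v (k, false)) = c⁻¹ • δ (v (k, false)) ∧
      ((e * g : GL ι K) : Matrix ι ι K) *ᵥ δ z = d • δ z := by
  have hzne : ∀ a, v a ≠ z := fun a e => hz ⟨a, e⟩
  have hsum : ∀ f : ι → K, (∑ y : ι, if (∃ a, v a = y) then 0 else f y) = f z := fun f => by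
    rw [Finset.sum_eq_single z, if_neg (fun h : ∃ a, v a = z => hz h)]
    · intro y _ hy
      exact if_pos (by
        by_contra h
        exact hy (H.one y z h hz))
    · simp
  set A : Fin n × Bool := (k, true) with hA
  set B : Fin n × Bool := (k, false) with hB
  have hAB : v A ≠ v B := vne H (by simp [hA, hB])
  have hoA : opp A = B := rfl
  have hoB : opp B = A := rfl
  -- the pieces of root elements on this plane
  have mk : ∀ (p : Fin n × Bool) (t : K), p.1 = k → ∃ e ∈ E, FixOut v {k} e ∧ (e : Matrix ι ι K) = shM v p z t := by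
    intro p t hp
    obtain ⟨e, he, heM⟩ := H.sh p z t hz
    refine ⟨e, he, fun a ha => ?_, heM⟩
    rw [heM]
    exact sh_fix H hz t fun e => ha (by rw [e, opp_fst, hp]; simp)
  -- first basis vector
  obtain ⟨e₁, he₁, hf₁, h1⟩ : ∃ e ∈ E, FixOut v {k} e ∧
      ((e : Matrix ι ι K) *ᵥ ((g : Matrix ι ι K) *ᵥ δ (v A))) (v A) ≠ 0 := by
    set w := (g : Matrix ι ι K) *ᵥ δ (v A) with hw
    by_cases hwa : w (v A) ≠ 0
    · exact ⟨1, one_mem _, fixOut_one v, by simpa using hwa⟩
    push Not at hwa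
    have h0 := singular_supp H (w := w) (k := k) (by rw [hw, hg, Q_delta H]) (supp_off H hg hf _ rfl)
    rw [hsum, ← hA, hwa, zero_mul, zero_add] at h0
    have hwz := pow_eq_zero_iff two_ne_zero |>.1 h0
    have hwb : w (v B) ≠ 0 := fun hwb => image_ne H g (v A) (ext_coords H (fun b => by
      by_cases hb : b.1 = k
      · obtain ⟨i, t⟩ := b
        simp only at hb; subst hb
        cases t
        · exact hwb
        · exact hwa
      · exact supp_off H hg hf _ rfl b hb) (fun y hy => by rw [H.one y z hy hz]; exact hwz))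
    obtain ⟨e, he, hfe, heM⟩ := mk A 1 rfl
    refine ⟨e, he, hfe, ?_⟩
    rw [heM, shM_mulVec]
    simpa [hwa, hwz, hoA, Pi.single_eq_of_ne (hzne A)] using hwb
  have hg₁ : ∀ w, Q (((e₁ * g : GL ι K) : Matrix ι ι K) *ᵥ w) = Q w := fun w => by
    rw [Units.val_mul, ← Matrix.mulVec_mulVec, H.iso e₁ he₁, hg]
  set w₁ := (e₁ : Matrix ι ι K) *ᵥ ((g : Matrix ι ι K) *ᵥ δ (v A)) with hw₁
  have hs1 : ∀ b : Fin n × Bool, b.1 ≠ k → w₁ (v b) = 0 := fun b hb => by
    have := supp_off H hg₁ (fixOut_mul v hf₁ hf) A rfl b hb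
    rwa [Units.val_mul, ← Matrix.mulVec_mulVec] at this
  obtain ⟨e₂, he₂, hf₂, hM₂⟩ := mk B (-w₁ z / w₁ (v A)) rfl
  set w₂ := (e₂ : Matrix ι ι K) *ᵥ w₁ with hw₂
  have hs2 : ∀ b : Fin n × Bool, b.1 ≠ k → w₂ (v b) = 0 := fun b hb => by
    have hne : b ≠ B := fun e => hb (by rw [e])
    rw [hw₂, hM₂, shM_mulVec]
    simp [hs1 b hb, Pi.single_eq_of_ne (hzne b), Pi.single_eq_of_ne (vne H hne)]
  have h2z : w₂ z = 0 := by
    rw [hw₂, hM₂, shM_mulVec]
    simp [hoB, div_mul_cancel₀ _ h1, Pi.single_eq_of_ne (hzne B).symm]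
  have h2a : w₂ (v A) = w₁ (v A) := by
    rw [hw₂, hM₂, shM_mulVec]
    simp [Pi.single_eq_of_ne (hzne A), Pi.single_eq_of_ne hAB]
  have hQ2 : Q w₂ = 0 := by rw [hw₂, H.iso _ he₂, hw₁, H.iso _ he₁, hg, Q_delta H]
  have h2b : w₂ (v B) = 0 := by
    have h0 := singular_supp H hQ2 hs2
    rw [hsum, h2z, zero_pow two_ne_zero, add_zero, mul_eq_zero] at h0
    exact h0.resolve_left (by rw [← hA, h2a]; exact h1)
  set c := w₁ (v A) with hc
  have hw2eq : w₂ = c • δ (v A) := ext_coords H (fun b => by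
    by_cases hb : b.1 = k
    · obtain ⟨i, t⟩ := b
      simp only at hb; subst hb
      cases t
      · rw [← hB]
        simpa [δ, Pi.single_eq_of_ne hAB.symm] using h2b
      · rw [← hA]
        simpa [δ] using h2a
    · have hne : b ≠ A := fun e => hb (by rw [e])
      simp [δ, hs2 b hb, Pi.single_eq_of_ne (vne H hne)]) (fun y hy => by
    rw [H.one y z hy hz]
    simp [h2z, δ, Pi.single_eq_of_ne (hzne A).symm])
  set g₂ := e₂ * (e₁ * g) with hg₂
  have hg₂iso : ∀ w, Q ((g₂ : Matrix ι ι K) *ᵥ w) = Q w := fun w => by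
    rw [hg₂, Units.val_mul, ← Matrix.mulVec_mulVec, H.iso e₂ he₂, hg₁]
  have hg₂A : (g₂ : Matrix ι ι K) *ᵥ δ (v A) = c • δ (v A) := by
    rw [hg₂, Units.val_mul, Units.val_mul, ← Matrix.mulVec_mulVec, ← Matrix.mulVec_mulVec, ← hw₁, ← hw₂, hw2eq]
  have hf₂' : FixOut v {k} g₂ := fixOut_mul v hf₂ (fixOut_mul v hf₁ hf)
  have hcB := pair_eq H hg₂iso hg₂A
  set w₃ := (g₂ : Matrix ι ι K) *ᵥ δ (v B) with hw₃
  change c * w₃ (v B) = 1 at hcB
  obtain ⟨e₃, he₃, hf₃, hM₃⟩ := mk A (-w₃ z * c) rfl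
  have hs3 : ∀ b : Fin n × Bool, b.1 ≠ k → w₃ (v b) = 0 := supp_off H hg₂iso hf₂' B rfl
  set g₃ := e₃ * g₂ with hg₃
  have hg₃iso : ∀ w, Q ((g₃ : Matrix ι ι K) *ᵥ w) = Q w := fun w => by
    rw [hg₃, Units.val_mul, ← Matrix.mulVec_mulVec, H.iso e₃ he₃, hg₂iso]
  have hf₃' : FixOut v {k} g₃ := fixOut_mul v hf₃ hf₂'
  have hg₃A : (g₃ : Matrix ι ι K) *ᵥ δ (v A) = c • δ (v A) := by
    rw [hg₃, Units.val_mul, ← Matrix.mulVec_mulVec, hg₂A, Matrix.mulVec_smul, hM₃,
      sh_fix H hz _ (opp_ne A).symm]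
  set w₄ := (g₃ : Matrix ι ι K) *ᵥ δ (v B) with hw₄
  have h4 : w₄ = (e₃ : Matrix ι ι K) *ᵥ w₃ := by rw [hw₄, hg₃, Units.val_mul, ← Matrix.mulVec_mulVec]
  have hw3b : w₃ (v B) = c⁻¹ := eq_inv_of_mul_eq_one_right hcB
  have h4b : w₄ (v B) = c⁻¹ := by
    rw [h4, hM₃, shM_mulVec]
    simp [hw3b, Pi.single_eq_of_ne (hzne B), Pi.single_eq_of_ne hAB.symm]
  have h4z : w₄ z = 0 := by
    rw [h4, hM₃, shM_mulVec]
    simp [hoA, hw3b, mul_assoc, mul_inv_cancel₀ h1, Pi.single_eq_of_ne (hzne A).symm]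
  have h4a : w₄ (v A) = 0 := by
    have h0 := singular_supp H (w := w₄) (k := k) (by rw [hw₄, hg₃iso, Q_delta H]) (supp_off H hg₃iso hf₃' B rfl)
    rw [hsum, h4z, zero_pow two_ne_zero, add_zero, mul_eq_zero] at h0
    exact h0.resolve_right (by rw [← hB, h4b]; exact inv_ne_zero h1)
  have hg₃B : w₄ = c⁻¹ • δ (v B) := ext_coords H (fun b => by
    by_cases hb : b.1 = k
    · obtain ⟨i, t⟩ := b
      simp only at hb; subst hb
      cases t
      · rw [← hB]
        simpa [δ] using h4b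
      · rw [← hA]
        simpa [δ, Pi.single_eq_of_ne hAB] using h4a
    · have hne : b ≠ B := fun e => hb (by rw [e])
      rw [show w₄ (v b) = 0 from supp_off H hg₃iso hf₃' B rfl b hb]
      simp [δ, Pi.single_eq_of_ne (vne H hne)]) (fun y hy => by
    rw [H.one y z hy hz]
    simp [h4z, δ, Pi.single_eq_of_ne (hzne B).symm])
  -- the anisotropic vector
  set u := (g₃ : Matrix ι ι K) *ᵥ δ z with hu
  have polz : ∀ b, Q (δ z + δ (v b)) - Q (δ z : ι → K) - Q (δ (v b)) = 0 := fun b => by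
    rw [polar_delta H, δ, Pi.single_eq_of_ne (hzne _)]
  have hub : ∀ b : Fin n × Bool, u (v b) = 0 := by
    intro b
    have h5 := iso_image H hg₃iso (δ z) (δ (v (opp b)))
    rw [polz, ← hu] at h5
    by_cases hb : b.1 = k
    · obtain ⟨i, t⟩ := b
      simp only at hb; subst hb
      cases t
      · rw [show opp ((i, false) : Fin n × Bool) = A from rfl, hg₃A] at h5
        rw [polar H, hsum, Finset.sum_eq_single i] at h5
        · rw [← hA, ← hB] at h5
          rw [← hB]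
          simpa [δ, Pi.single_eq_of_ne (hzne A).symm, Pi.single_eq_of_ne hAB.symm, h1] using h5
        · intro j _ hj
          simp [δ, fun s => Pi.single_eq_of_ne (M := fun _ => K)
            (vne H (fun e : ((j, s) : Fin n × Bool) = A => hj (congrArg Prod.fst e)))]
        · simp
      · rw [show opp ((i, true) : Fin n × Bool) = B from rfl, ← hw₄, hg₃B] at h5
        rw [polar H, hsum, Finset.sum_eq_single i] at h5
        · rw [← hA, ← hB] at h5
          rw [← hA]
          simpa [δ, Pi.single_eq_of_ne (hzne B).symm, Pi.single_eq_of_ne hAB, h1] using h5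
        · intro j _ hj
          simp [δ, fun s => Pi.single_eq_of_ne (M := fun _ => K)
            (vne H (fun e : ((j, s) : Fin n × Bool) = B => hj (congrArg Prod.fst e)))]
        · simp
    · rw [hf₃' (opp b) (by simpa [opp] using hb), polar_delta H, opp_opp] at h5
      exact h5
  have hueq : u = u z • δ z := ext_coords H (fun b => by simp [hub b, δ, Pi.single_eq_of_ne (hzne b)])
    (fun y hy => by rw [H.one y z hy hz]; simp [δ])
  have hd : u z * u z = 1 := by
    have h6 := hg₃iso (δ z)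
    rw [← hu, H.hQ, H.hQ, hsum, hsum] at h6
    simpa [hub, δ, Pi.single_eq_of_ne (hzne _), pow_two] using h6
  have heq : e₃ * e₂ * e₁ * g = g₃ := by rw [hg₃, hg₂]; simp only [mul_assoc]
  refine ⟨e₃ * e₂ * e₁, mul_mem (mul_mem he₃ he₂) he₁, by rw [heq]; exact hf₃', c, u z, h1, hd, ?_⟩
  rw [heq]
  exact ⟨hg₃A, hg₃B, hueq⟩

end Cfsg.Agent.Chev.OrthModel
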