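/-
Monomial isometries, and the derived group of the isometry group.
-/
import Cfsg.Agent.Lib.Chev.OrthModel.Model
import Cfsg.Agent.Lib.Chev.OrthModel.Plane
import Cfsg.Agent.Lib.Chev.OrthModel.Extra

set_option autoImplicit false
set_option linter.unusedSectionVars false
set_option maxHeartbeats 1000000

namespace Cfsg.Agent.Chev.OrthModel

open Cfsg.Agent.Chev
open scoped Matrix commutatorElement

theorem commutator_le_of_cover {G : Type*} [Group G] {O N : Subgroup G} {T : Set G}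
    (hdec : ∀ g ∈ O, ∃ e ∈ N, e * g ∈ T) (hnorm : ∀ x ∈ T, x ∈ Subgroup.normalizer (N : Set G))
    (hcomm : ∀ x ∈ T, ∀ y ∈ T, x * y * x⁻¹ * y⁻¹ ∈ N) : ⁅O, O⁆ ≤ N := by
  rw [Subgroup.commutator_le]
  intro g hg g' hg'
  obtain ⟨e, he, hx⟩ := hdec g hg
  obtain ⟨e', he', hy⟩ := hdec g' hg'
  set x := e * g with hxd
  set y := e' * g' with hyd
  have hn : ∀ {z}, z ∈ T → ∀ {w}, w ∈ N → z * w * z⁻¹ ∈ N := fun hz _ hw =>
    (Subgroup.mem_normalizer_iff.1 (hnorm _ hz) _).1 hw
  have key : ⁅g, g'⁆ = e⁻¹ * (x * e'⁻¹ * x⁻¹) * (x * y * x⁻¹ * y⁻¹) * (y * e * y⁻¹) * e' := by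
    rw [hxd, hyd, commutatorElement_def]
    group
  rw [key]
  exact mul_mem (mul_mem (mul_mem (mul_mem (inv_mem he) (hn hx (inv_mem he'))) (hcomm x hx y hy)) (hn hy he)) he'

variable {ι : Type} [Fintype ι] [DecidableEq ι] {K : Type*} [Field K]

/-- The diagonal element of a grading. -/
def dT (wt : ι → ℤ) (c : Kˣ) : GL ι K :=
  ⟨Matrix.diagonal fun i => ((c ^ wt i : Kˣ) : K), Matrix.diagonal fun i => (((c ^ wt i)⁻¹ : Kˣ) : K),
    by rw [Matrix.diagonal_mul_diagonal, ← Matrix.diagonal_one]; congr 1; funext i; rw [← Units.val_mul, mul_inv_cancel, Units.val_one],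
    by rw [Matrix.diagonal_mul_diagonal, ← Matrix.diagonal_one]; congr 1; funext i; rw [← Units.val_mul, inv_mul_cancel, Units.val_one]⟩

theorem coe_dT (wt : ι → ℤ) (c : Kˣ) :
    (dT wt c : Matrix ι ι K) = Matrix.diagonal fun i => ((c ^ wt i : Kˣ) : K) := rfl

theorem dT_mul (wt : ι → ℤ) (c d : Kˣ) : dT wt (c * d) = dT wt c * dT wt d := by
  refine Units.ext ?_
  rw [Units.val_mul, coe_dT, coe_dT, coe_dT, Matrix.diagonal_mul_diagonal]
  congr 1
  funext i
  rw [mul_zpow, Units.val_mul]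

theorem dT_one (wt : ι → ℤ) : dT wt (1 : Kˣ) = 1 := by
  refine Units.ext ?_
  simp [coe_dT]

theorem dT_inv (wt : ι → ℤ) (c : Kˣ) : (dT wt c)⁻¹ = dT wt c⁻¹ := by
  rw [inv_eq_iff_mul_eq_one, ← dT_mul, mul_inv_cancel, dT_one]

theorem dT_commute (wt : ι → ℤ) (c d : Kˣ) : Commute (dT wt c) (dT wt d) := by
  show _ * _ = _ * _
  rw [← dT_mul, ← dT_mul, mul_comm]

/-- A constant involutive sparse matrix. -/
def involS {L : List ι} (hn : L.Nodup) (hc : ∀ a, a ∈ L) (S : List (Ent ι)) (h : eqS (mulS S S) (one1 L) = true) :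
    GL ι K :=
  ⟨evS 1 1 S, evS 1 1 S, by rw [← evS_mul, evS_eq _ _ h, evS_one _ _ hn hc],
    by rw [← evS_mul, evS_eq _ _ h, evS_one _ _ hn hc]⟩

theorem evS_const {S : List (Ent ι)} (h : ∀ e ∈ S, e.2.2.1 = 0 ∧ e.2.2.2.1 = 0) (t u : K) :
    evS t u S = evS 1 1 S := by
  refine congrArg List.sum (List.map_congr_left fun e he => ?_)
  simp [term, h e he]

theorem evS_red {t u : K} (htu : t * u = 1) (A : List (Ent ι)) : evS t u (redS A) = evS t u A := by
  rw [evS, redS, List.map_map]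
  refine congrArg List.sum (List.map_congr_left fun e _ => ?_)
  simp only [Function.comp, term]
  congr 1
  set m := min e.2.2.1 e.2.2.2.1
  conv_rhs => rw [show e.2.2.1 = (e.2.2.1 - m) + m by omega, show e.2.2.2.1 = (e.2.2.2.1 - m) + m by omega]
  rw [pow_add, pow_add]
  have : t ^ m * u ^ m = 1 := by rw [← mul_pow, htu, one_pow]
  linear_combination -((e.2.2.2.2 : K) * t ^ (e.2.2.1 - m) * u ^ (e.2.2.2.1 - m)) * this

theorem evS_prodN {L : List ι} (hn : L.Nodup) (hc : ∀ a, a ∈ L) {t u : K} (htu : t * u = 1)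
    (As : List (List (Ent ι))) : evS t u (prodN L As) = (As.map (evS t u)).prod := by
  induction As with
  | nil => simpa [prodN] using evS_one t u hn hc
  | cons A As ih => rw [prodN, evS_nrm, evS_red htu, evS_mul, ih, List.map_cons, List.prod_cons]

/-- A diagonal list evaluates to a diagonal matrix. -/
theorem evS_diag {L : List ι} (hn : L.Nodup) (hc : ∀ a, a ∈ L) (t u : K) (i j : ι → ℕ) :
    evS t u (L.map fun x => (x, x, i x, j x, 1)) = Matrix.diagonal fun x => t ^ i x * u ^ j x := by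
  have hF : L.toFinset = Finset.univ := Finset.eq_univ_iff_forall.2 fun a => List.mem_toFinset.2 (hc a)
  rw [evS, List.map_map, ← List.sum_toFinset _ hn, hF]
  ext a b
  rw [Matrix.sum_apply]
  simp [term, Matrix.single, Matrix.diagonal_apply, ite_and]

variable {P : Pk} {L : List ι} {M : List (Ent ι)} {T : Tab ι} (hck : ckAll P L M T = true) (hc : ∀ a, a ∈ L)

variable (K) in
/-- The subgroup generated by the root elements. -/
def eGroup : Subgroup (GL ι K) :=
  Subgroup.closure {g | ∃ r, r < P.nroots ∧ ∃ t : K, g = uX hck hc r t}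

theorem uX_mem_eGroup (r : ℕ) (t : K) : uX hck hc r t ∈ eGroup K hck hc := by
  by_cases hr : r < P.nroots
  · exact Subgroup.subset_closure ⟨r, hr, t, rfl⟩
  · rw [uX, dif_neg hr]; exact one_mem _

theorem eGroup_mem_of_root {S : List (Ent ι)} (h : isRootS P L T S = true) (t : K) :
    ∃ g ∈ eGroup K hck hc, (g : Matrix ι ι K) = evS t 0 S := by
  obtain ⟨hn, -⟩ := spec hck
  simp only [isRootS, List.any_eq_true, Pk.mem_allRoots, Bool.or_eq_true] at h
  obtain ⟨r, hr, e | e⟩ := h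
  · refine ⟨uX hck hc r t, uX_mem_eGroup hck hc r t, ?_⟩
    rw [coe_uX hck hc hr, evS_eq _ _ e, evS_elS hn hc]
    simp
  · refine ⟨uX hck hc r (-t), uX_mem_eGroup hck hc r _, ?_⟩
    rw [coe_uX hck hc hr, evS_eq _ _ e, evS_elS hn hc]
    simp

theorem eGroup_le {O : Subgroup (GL ι K)} (h : ∀ r t, uX hck hc r t ∈ O) : eGroup K hck hc ≤ O :=
  (Subgroup.closure_le _).2 fun g ⟨r, _, t, e⟩ => e ▸ h r t

theorem normalizes {x : GL ι K} (h1 : ∀ r < P.nroots, ∀ t, x * uX hck hc r t * x⁻¹ ∈ eGroup K hck hc)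
    (h2 : ∀ r < P.nroots, ∀ t, x⁻¹ * uX hck hc r t * x ∈ eGroup K hck hc) :
    x ∈ Subgroup.normalizer (eGroup K hck hc : Set (GL ι K)) := by
  refine mem_normalizer_closure ?_ ?_
  · rintro _ ⟨r, hr, t, rfl⟩; exact h1 r hr t
  · rintro _ ⟨r, hr, t, rfl⟩; exact h2 r hr t

theorem dT_conj {wt : ι → ℤ} (hwt : ckWt P T wt = true) (c : Kˣ) {r : ℕ} (hr : r < P.nroots) (t : K) :
    dT wt c * uX hck hc r t * (dT wt c)⁻¹ = uX hck hc r (((c ^ wtR T wt r : Kˣ) : K) * t) := by
  obtain ⟨hn, -⟩ := spec hck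
  simp only [ckWt, List.all_eq_true, Pk.mem_allRoots, decide_eq_true_eq] at hwt
  refine Units.ext ?_
  rw [Units.val_mul, Units.val_mul, coe_uX hck hc hr, coe_uX hck hc hr, dT_inv, coe_dT, coe_dT, mX, mX, elS,
    evS_append, evS_append, evS_one _ _ hn hc, evS_one _ _ hn hc, mul_add, add_mul, mul_one]
  congr 1
  · rw [Matrix.diagonal_mul_diagonal, ← Matrix.diagonal_one]
    congr 1
    funext i
    rw [inv_zpow, ← Units.val_mul, mul_inv_cancel, Units.val_one]
  · simp only [evS, List.map_map, ← List.sum_map_mul_left, ← List.sum_map_mul_right]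
    refine congrArg List.sum (List.map_congr_left fun e he => ?_)
    simp only [Function.comp, term, Nat.mul_one, Nat.mul_zero, pow_zero, mul_one]
    ext a b
    simp only [Matrix.mul_diagonal, Matrix.diagonal_mul, Matrix.single, Matrix.of_apply]
    split_ifs with hab
    · obtain ⟨rfl, rfl⟩ := hab
      rw [mul_pow, inv_zpow, ← Units.val_pow_eq_pow_val (c ^ wtR T wt r), ← zpow_natCast (c ^ wtR T wt r),
        ← zpow_mul, mul_comm (wtR T wt r), ← hwt r hr e he, zpow_sub, Units.val_mul]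
      ring
    · simp

theorem dT_normalizer {wt : ι → ℤ} (hwt : ckWt P T wt = true) (c : Kˣ) :
    dT wt c ∈ Subgroup.normalizer (eGroup K hck hc : Set (GL ι K)) := by
  refine normalizes hck hc (fun r hr t => ?_) fun r hr t => ?_
  · rw [dT_conj hck hc hwt c hr]; exact uX_mem_eGroup hck hc _ _
  · have := dT_conj hck hc hwt c⁻¹ hr t
    rw [← dT_inv, inv_inv] at this
    rw [this]; exact uX_mem_eGroup hck hc _ _

theorem perm_spec {S : List (Ent ι)} (hS : ckPerm P L T S = true) :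
    eqS (mulS S S) (one1 L) = true ∧ (∀ e ∈ S, e.2.2.1 = 0 ∧ e.2.2.2.1 = 0) := by
  simp only [ckPerm, Bool.and_eq_true, List.all_eq_true, nbeq, decide_eq_true_eq] at hS
  exact ⟨hS.1.1, hS.1.2⟩

variable (K) in
/-- The permuting element. -/
def permG {S : List (Ent ι)} (hS : ckPerm P L T S = true) : GL ι K :=
  involS (spec hck).1 hc S (perm_spec hS).1

theorem coe_permG {S : List (Ent ι)} (hS : ckPerm P L T S = true) :
    (permG K hck hc hS : Matrix ι ι K) = evS 1 1 S := rfl

theorem permG_inv {S : List (Ent ι)} (hS : ckPerm P L T S = true) : (permG K hck hc hS)⁻¹ = permG K hck hc hS :=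
  Units.ext rfl

theorem permG_normalizer {S : List (Ent ι)} (hS : ckPerm P L T S = true) :
    permG K hck hc hS ∈ Subgroup.normalizer (eGroup K hck hc : Set (GL ι K)) := by
  obtain ⟨hn, -⟩ := spec hck
  have hdeg := (perm_spec hS).2
  have hS' := hS
  simp only [ckPerm, Bool.and_eq_true, List.all_eq_true, List.any_eq_true, Pk.mem_allRoots, Bool.or_eq_true] at hS'
  have key : ∀ r < P.nroots, ∀ t : K, permG K hck hc hS * uX hck hc r t * permG K hck hc hS ∈ eGroup K hck hc := by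
    intro r hr t
    obtain ⟨r', hr', hcase⟩ := hS'.2 r hr
    have hev : (permG K hck hc hS * uX hck hc r t * permG K hck hc hS).val =
        evS t 0 (mulS S (mulS (elS L T r 1 1 0) S)) := by
      rw [Units.val_mul, Units.val_mul, coe_uX hck hc hr, coe_permG, evS_mul, evS_mul, evS_const hdeg t 0,
        evS_elS hn hc, mul_assoc]
      simp
    rcases hcase with e | e
    · rw [show permG K hck hc hS * uX hck hc r t * permG K hck hc hS = uX hck hc r' t from Units.ext (by
        rw [hev, evS_eq _ _ e, evS_elS hn hc, coe_uX hck hc hr']; simp)]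
      exact uX_mem_eGroup hck hc _ _
    · rw [show permG K hck hc hS * uX hck hc r t * permG K hck hc hS = uX hck hc r' (-t) from Units.ext (by
        rw [hev, evS_eq _ _ e, evS_elS hn hc, coe_uX hck hc hr']; simp)]
      exact uX_mem_eGroup hck hc _ _
  exact normalizes hck hc (fun r hr t => by rw [permG_inv]; exact key r hr t)
    fun r hr t => by rw [permG_inv]; exact key r hr t

theorem ext_delta {g g' : GL ι K}
    (h : ∀ i, (g : Matrix ι ι K) *ᵥ (δ i : ι → K) = (g' : Matrix ι ι K) *ᵥ δ i) : g = g' := by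
  refine Units.ext (Matrix.ext fun a b => ?_)
  simpa [δ] using congrFun (h b) a

theorem dT_delta (wt : ι → ℤ) (c : Kˣ) (i : ι) :
    (dT wt c : Matrix ι ι K) *ᵥ δ i = ((c ^ wt i : Kˣ) : K) • (δ i : ι → K) := by
  ext a
  rw [coe_dT, Matrix.mulVec_diagonal]
  by_cases h : a = i
  · subst h; simp [δ]
  · simp [δ, Pi.single_eq_of_ne h]

end Cfsg.Agent.Chev.OrthModel
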