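/-
`D4(F)` and `B2(F)` as projective orthogonal groups.
-/
import Cfsg.Agent.Lib.Chev.OrthModel.Monomial
import Cfsg.Agent.Lib.Chev.OrthModel.Data
import Cfsg.Agent.Lib.Chev.OrthModel.Iso
import Cfsg.Agent.Lib.CurtisTits.CoverMap
import Cfsg.Agent.Lib.Chev.AllS
import Cfsg.Agent.S2395

set_option autoImplicit false
set_option linter.unusedSectionVars false
set_option maxHeartbeats 1000000

namespace Cfsg.Agent.Chev.OrthModel

open Cfsg.Agent.Chev Cfsg.Lie
open scoped Matrix commutatorElement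

variable {K : Type*} [Field K]

theorem vv8_inj : Function.Injective vv8 := by decide +kernel
theorem vv5_inj : Function.Injective vv5 := by decide +kernel

theorem evS_opS {ι : Type} [Fintype ι] [DecidableEq ι] {n : ℕ} {L : List ι} (hn : L.Nodup) (hc : ∀ a, a ∈ L)
    (v : Fin n × Bool → ι) (a b : Fin n × Bool) (t : K) : evS t 0 (opS L v a b) = opM v a b t := by
  rw [opS, evS_append, evS_one _ _ hn hc]
  simp [evS, term, opM, opp, add_assoc]

theorem evS_shS {ι : Type} [Fintype ι] [DecidableEq ι] {n : ℕ} {L : List ι} (hn : L.Nodup) (hc : ∀ a, a ∈ L)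
    (v : Fin n × Bool → ι) (a : Fin n × Bool) (z : ι) (t : K) : evS t 0 (shS L v a z) = shM v a z t := by
  rw [shS, evS_append, evS_one _ _ hn hc]
  simp [evS, term, shM, opp, add_assoc]

theorem single_quad {ι : Type} [Fintype ι] [DecidableEq ι] (v : ι → K) (a b : ι) (c : K) :
    v ⬝ᵥ (Matrix.single a b c *ᵥ v) = c * (v a * v b) := by
  rw [dotProduct, Finset.sum_eq_single a]
  · rw [Matrix.single_mulVec]; simp; ring
  · intro x _ hx
    rw [Matrix.single_mulVec]; simp [Function.update_of_ne hx]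
  · simp

theorem formM_eq {ι : Type} [Fintype ι] [DecidableEq ι] (M : List (Ent ι)) (v : ι → K) :
    formM M v = (M.map fun e => (e.2.2.2.2 : K) * (v e.1 * v e.2.1)).sum := by
  unfold formM evS
  induction M with
  | nil => simp
  | cons e M ih =>
    rw [List.map_cons, List.sum_cons, Matrix.add_mulVec, dotProduct_add, ih, List.map_cons, List.sum_cons, term,
      single_quad]
    simp

theorem hQ8 (v : I8 → K) : Cfsg.quadFormPlus 4 K v = formM M8 v := by
  rw [formM_eq]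
  simp [M8, Cfsg.quadFormPlus, Fin.sum_univ_four, List.finRange_succ, add_assoc]

theorem hQ5 (v : I5 → K) : Cfsg.quadFormOdd 2 K v = formM M5 v := by
  rw [formM_eq]
  simp [M5, Cfsg.quadFormOdd, Fin.sum_univ_two, List.finRange_succ, add_assoc, pow_two]

/-- The isometry group inside the invertible matrices. -/
abbrev O8 (K : Type*) [Field K] : Subgroup (GL I8 K) := Cfsg.isometryGroup K (Cfsg.quadFormPlus 4 K)

/-- The isometry group inside the invertible matrices. -/
abbrev O5 (K : Type*) [Field K] : Subgroup (GL I5 K) := Cfsg.isometryGroup K (Cfsg.quadFormOdd 2 K)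

theorem iso_of_mem8 {g : GL I8 K} (hg : g ∈ O8 K) (w : I8 → K) :
    Cfsg.quadFormPlus 4 K ((g : Matrix I8 I8 K) *ᵥ w) = Cfsg.quadFormPlus 4 K w := hg w w

theorem iso_of_mem5 {g : GL I5 K} (hg : g ∈ O5 K) (w : I5 → K) :
    Cfsg.quadFormOdd 2 K ((g : Matrix I5 I5 K) *ᵥ w) = Cfsg.quadFormOdd 2 K w := hg w w

theorem eGroup8_le : eGroup K all_D4 mem_L8 ≤ O8 K :=
  eGroup_le _ _ fun r t => uX_mem all_D4 mem_L8 deg_M8 hQ8 r t

theorem eGroup5_le : eGroup K all_B2 mem_L5 ≤ O5 K :=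
  eGroup_le _ _ fun r t => uX_mem all_B2 mem_L5 deg_M5 hQ5 r t

theorem range8 : ∀ z, z ∈ Set.range vv8 := by
  have h : ∀ z : I8, ∃ a, vv8 a = z := by decide +kernel
  exact h

theorem split8 : Split vv8 (Cfsg.quadFormPlus 4 K) (eGroup K all_D4 mem_L8) where
  inj := vv8_inj
  one := fun z _ hz _ => absurd (range8 z) hz
  hQ := fun w => by
    rw [Finset.sum_eq_zero (fun z _ => if_pos (show ∃ a, vv8 a = z from range8 z)), add_zero]
    rfl
  iso := fun g hg w => iso_of_mem8 (eGroup8_le hg) w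
  op := fun a b t hab => by
    obtain ⟨g, hg, e⟩ := eGroup_mem_of_root (K := K) all_D4 mem_L8 (op_D4 a b hab) t
    exact ⟨g, hg, by rw [e, evS_opS (spec all_D4).1 mem_L8]⟩
  sh := fun a z t hz => absurd (range8 z) hz

theorem off5 (z : I5) : z ∉ Set.range vv5 ↔ z = .inl () := by
  have h : ∀ z : I5, (∃ a, vv5 a = z) ↔ z ≠ .inl () := by decide +kernel
  show ¬ (∃ a, vv5 a = z) ↔ _
  rw [h z, not_not]

theorem split5 : Split vv5 (Cfsg.quadFormOdd 2 K) (eGroup K all_B2 mem_L5) where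
  inj := vv5_inj
  one := fun z z' hz hz' => ((off5 z).1 hz).trans ((off5 z').1 hz').symm
  hQ := fun w => by
    rw [Finset.sum_eq_single (Sum.inl () : I5), if_neg (show ¬ ∃ a, vv5 a = Sum.inl () from (off5 _).2 rfl)]
    · rw [Cfsg.quadFormOdd, add_comm]; rfl
    · intro z _ hz
      exact if_pos (show ∃ a, vv5 a = z by
        by_contra h
        exact hz ((off5 z).1 h))
    · simp
  iso := fun g hg w => iso_of_mem5 (eGroup5_le hg) w
  op := fun a b t hab => by
    obtain ⟨g, hg, e⟩ := eGroup_mem_of_root (K := K) all_B2 mem_L5 (op_B2 a b hab) t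
    exact ⟨g, hg, by rw [e, evS_opS (spec all_B2).1 mem_L5]⟩
  sh := fun a z t hz => by
    obtain rfl := (off5 z).1 hz
    obtain ⟨g, hg, e⟩ := eGroup_mem_of_root (K := K) all_B2 mem_L5 (sh_B2 a) t
    exact ⟨g, hg, by rw [e, evS_shS (spec all_B2).1 mem_L5]⟩

/-- The exchange on the last plane. -/
noncomputable abbrev sw8 (K : Type*) [Field K] : GL I8 K := permG K all_D4 mem_L8 perm_D4

/-- The reflection in the anisotropic vector. -/
noncomputable abbrev sn5 (K : Type*) [Field K] : GL I5 K := permG K all_B2 mem_L5 perm_B2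

theorem coe_perm_mulVec {ι : Type} [Fintype ι] [DecidableEq ι] (S : List (Ent ι)) (i : ι) :
    evS (1 : K) 1 S *ᵥ δ i = fun j => (evS (1 : K) 1 S) j i := by
  funext j
  simp [δ]

theorem sw8_delta (i : I8) : (sw8 K : Matrix I8 I8 K) *ᵥ δ i =
    δ (if i = .inl 3 then .inr 3 else if i = .inr 3 then .inl 3 else i) := by
  show evS (1 : K) 1 _ *ᵥ δ i = _
  rw [coe_perm_mulVec]
  funext j
  rcases i with i | i <;> rcases j with j | j <;> fin_cases i <;> fin_cases j <;>
    simp [evS, swS, L8, List.finRange_succ, term, Matrix.single, δ, Pi.single_apply]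

theorem sn5_delta (i : I5) : (sn5 K : Matrix I5 I5 K) *ᵥ δ i =
    (if i = .inl () then (-1 : K) else 1) • (δ i : I5 → K) := by
  show evS (1 : K) 1 _ *ᵥ δ i = _
  rw [coe_perm_mulVec]
  funext j
  rcases i with i | i | i <;> rcases j with j | j | j <;> (try fin_cases i) <;> (try fin_cases j) <;>
    simp [evS, negAtS, L5, List.finRange_succ, term, Matrix.single, δ, Pi.single_apply]

theorem sw8_dT (c : Kˣ) : sw8 K * dT wt8 c * sw8 K = dT wt8 c⁻¹ := by
  refine ext_delta fun i => ?_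
  rw [Units.val_mul, Units.val_mul, ← Matrix.mulVec_mulVec, ← Matrix.mulVec_mulVec, sw8_delta, dT_delta,
    Matrix.mulVec_smul, sw8_delta, dT_delta]
  rcases i with i | i <;> fin_cases i <;> simp [wt8]

theorem sn5_dT (c : Kˣ) : sn5 K * dT wt5 c = dT wt5 c * sn5 K := by
  refine ext_delta fun i => ?_
  rw [Units.val_mul, Units.val_mul, ← Matrix.mulVec_mulVec, ← Matrix.mulVec_mulVec, sn5_delta, dT_delta,
    Matrix.mulVec_smul, Matrix.mulVec_smul, sn5_delta, dT_delta, smul_comm]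

theorem sq_mem (c : Kˣ) : dT wt8 (c * c) ∈ eGroup K all_D4 mem_L8 := by
  have hn := (spec all_D4).1
  have htu : (c : K) * ((c⁻¹ : Kˣ) : K) = 1 := by rw [← Units.val_mul, mul_inv_cancel, Units.val_one]
  have hX : ∀ r, r < D4.pk.nroots → ∀ (z : ℤ) (i j : ℕ), ∃ g ∈ eGroup K all_D4 mem_L8,
      (g : Matrix I8 I8 K) = evS (c : K) ((c⁻¹ : Kˣ) : K) (elS L8 T8 r z i j) := fun r hr z i j =>
    ⟨_, uX_mem_eGroup all_D4 mem_L8 r _, by rw [coe_uX all_D4 mem_L8 hr, evS_elS hn mem_L8]⟩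
  have hlist : ∀ A ∈ hFac D4.pk L8 T8 10 ++ hFac D4.pk L8 T8 12, ∃ g ∈ eGroup K all_D4 mem_L8,
      (g : Matrix I8 I8 K) = evS (c : K) ((c⁻¹ : Kˣ) : K) A := by
    intro A hA
    simp only [hFac, List.cons_append, List.nil_append, List.mem_cons, List.not_mem_nil, or_false] at hA
    rcases hA with rfl | rfl | rfl | rfl | rfl | rfl | rfl | rfl | rfl | rfl | rfl | rfl <;>
      exact hX _ (by decide +kernel) _ _ _
  have hprod : ∀ As : List (List (Ent I8)), (∀ A ∈ As, ∃ g ∈ eGroup K all_D4 mem_L8,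
      (g : Matrix I8 I8 K) = evS (c : K) ((c⁻¹ : Kˣ) : K) A) → ∃ g ∈ eGroup K all_D4 mem_L8,
      (g : Matrix I8 I8 K) = (As.map (evS (c : K) ((c⁻¹ : Kˣ) : K))).prod := by
    intro As
    induction As with
    | nil => intro _; exact ⟨1, one_mem _, by simp⟩
    | cons A As ih =>
      intro hA
      obtain ⟨g, hg, e⟩ := hA A List.mem_cons_self
      obtain ⟨g', hg', e'⟩ := ih fun B hB => hA B (List.mem_cons_of_mem _ hB)
      exact ⟨g * g', mul_mem hg hg', by rw [Units.val_mul, e, e', List.map_cons, List.prod_cons]⟩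
  obtain ⟨g, hg, e⟩ := hprod _ hlist
  rw [← evS_prodN hn mem_L8 htu, evS_eq _ _ sq_D4] at e
  have hsq : sq8 = L8.map fun x => (x, x, (if x = .inl 3 then 2 else 0 : ℕ), (if x = .inr 3 then 2 else 0 : ℕ), (1 : ℤ)) :=
    List.map_congr_left fun x _ => by
      by_cases h : x = .inl 3
      · subst h; simp
      · by_cases h' : x = .inr 3 <;> simp [h, h']
  rw [hsq, evS_diag hn mem_L8] at e
  have : g = dT wt8 (c * c) := Units.ext (by
    rw [e, coe_dT]
    congr 1
    funext x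
    rcases x with i | i <;> fin_cases i <;> simp [wt8, pow_two])
  exact this ▸ hg

theorem omega8_le : ⁅O8 K, O8 K⁆ ≤ eGroup K all_D4 mem_L8 := by
  set N := eGroup K all_D4 mem_L8 with hN
  have hss : sw8 K * sw8 K = 1 := by
    have := permG_inv (K := K) all_D4 mem_L8 perm_D4
    rw [inv_eq_iff_mul_eq_one] at this
    exact this
  refine commutator_le_of_cover (T := {g | ∃ c, g = dT wt8 c ∨ g = dT wt8 c * sw8 K}) (fun g hg => ?_) ?_ ?_
  · obtain ⟨e, he, hf⟩ := reduce split8 (3 : Fin 4) (g := g) (iso_of_mem8 hg)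
    have hiso : ∀ w, Cfsg.quadFormPlus 4 K (((e * g : GL I8 K) : Matrix I8 I8 K) *ᵥ w) = Cfsg.quadFormPlus 4 K w :=
      iso_of_mem8 (mul_mem (eGroup8_le he) hg)
    obtain ⟨c, hc, hcase⟩ := plane_even split8 range8 hiso hf
    refine ⟨e, he, ?_⟩
    rcases hcase with ⟨h1, h2⟩ | ⟨h1, h2⟩
    · refine ⟨Units.mk0 c hc, Or.inl (ext_delta fun i => ?_)⟩
      rw [dT_delta]
      obtain ⟨⟨j, s⟩, rfl⟩ := range8 i
      by_cases hj : j = 3
      · subst hj
        cases s
        · rw [h2]; simp [wt8, vv8, v8]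
        · rw [h1]; simp [wt8, vv8, v8]
      · rw [hf (j, s) (by simpa using hj)]
        have : wt8 (vv8 (j, s)) = 0 := by cases s <;> simp [wt8, vv8, v8, hj]
        simp [this]
    · refine ⟨(Units.mk0 c hc)⁻¹, Or.inr (ext_delta fun i => ?_)⟩
      rw [Units.val_mul (dT wt8 _), ← Matrix.mulVec_mulVec, sw8_delta, dT_delta]
      obtain ⟨⟨j, s⟩, rfl⟩ := range8 i
      by_cases hj : j = 3
      · subst hj
        cases s
        · rw [h2]; simp [wt8, vv8, v8]
        · rw [h1]; simp [wt8, vv8, v8]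
      · rw [hf (j, s) (by simpa using hj)]
        cases s <;> simp [wt8, vv8, v8, hj]
  · rintro x ⟨c, rfl | rfl⟩
    · exact dT_normalizer _ _ wt_D4 c
    · exact mul_mem (dT_normalizer _ _ wt_D4 c) (permG_normalizer _ _ perm_D4)
  · have hinv : ∀ b : Kˣ, (dT wt8 b * sw8 K)⁻¹ = dT wt8 b * sw8 K := fun b => by
      rw [inv_eq_iff_mul_eq_one,
        show dT wt8 b * sw8 K * (dT wt8 b * sw8 K) = dT wt8 b * (sw8 K * dT wt8 b * sw8 K) by
          simp only [mul_assoc], sw8_dT, ← dT_mul, mul_inv_cancel, dT_one]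
    rintro x ⟨a, rfl | rfl⟩ y ⟨b, rfl | rfl⟩
    · rw [(dT_commute wt8 a b).eq, mul_inv_cancel_right, mul_inv_cancel]; exact one_mem _
    · rw [hinv, dT_inv, show dT wt8 a * (dT wt8 b * sw8 K) * dT wt8 a⁻¹ * (dT wt8 b * sw8 K) =
        dT wt8 a * dT wt8 b * (sw8 K * (dT wt8 a⁻¹ * dT wt8 b) * sw8 K) by simp only [mul_assoc], ← dT_mul, ← dT_mul,
        sw8_dT, ← dT_mul, show a * b * (a⁻¹ * b)⁻¹ = a * a by
          rw [mul_inv_rev, inv_inv, mul_comm b⁻¹ a, mul_mul_mul_comm, mul_inv_cancel, mul_one]]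
      exact sq_mem a
    · rw [hinv, dT_inv, show dT wt8 a * sw8 K * dT wt8 b * (dT wt8 a * sw8 K) * dT wt8 b⁻¹ =
        dT wt8 a * (sw8 K * (dT wt8 b * dT wt8 a) * sw8 K) * dT wt8 b⁻¹ by simp only [mul_assoc], ← dT_mul,
        sw8_dT, ← dT_mul, ← dT_mul, show a * (b * a)⁻¹ * b⁻¹ = b⁻¹ * b⁻¹ by
          rw [mul_inv_rev, ← mul_assoc a, mul_inv_cancel, one_mul]]
      exact sq_mem b⁻¹
    · rw [hinv, hinv, show dT wt8 a * sw8 K * (dT wt8 b * sw8 K) * (dT wt8 a * sw8 K) * (dT wt8 b * sw8 K) =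
        dT wt8 a * (sw8 K * dT wt8 b * sw8 K) * dT wt8 a * (sw8 K * dT wt8 b * sw8 K) by simp only [mul_assoc],
        sw8_dT, ← dT_mul, ← dT_mul, ← dT_mul, show a * b⁻¹ * a * b⁻¹ = (a * b⁻¹) * (a * b⁻¹) by simp only [mul_assoc]]
      exact sq_mem _

theorem mem_of_commute {G : Type*} [Group G] {N : Subgroup G} {x y : G} (h : Commute x y) :
    x * y * x⁻¹ * y⁻¹ ∈ N := by
  rw [h.eq, mul_inv_cancel_right, mul_inv_cancel]
  exact one_mem _

theorem omega5_le : ⁅O5 K, O5 K⁆ ≤ eGroup K all_B2 mem_L5 := by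
  have hz5 : (Sum.inl () : I5) ∉ Set.range vv5 := (off5 _).2 rfl
  refine commutator_le_of_cover (T := {g | ∃ c, g = dT wt5 c ∨ g = dT wt5 c * sn5 K}) (fun g hg => ?_) ?_ ?_
  · obtain ⟨e, he, hf⟩ := reduce split5 (1 : Fin 2) (g := g) (iso_of_mem5 hg)
    obtain ⟨e', he', hf', c, d, hc, hd, h1, h2, h3⟩ := plane_odd split5 hz5
      (g := e * g) (iso_of_mem5 (mul_mem (eGroup5_le he) hg)) hf
    refine ⟨e' * e, mul_mem he' he, ?_⟩
    rw [mul_assoc]
    have hcols : ∀ j s, ((e' * (e * g) : GL I5 K) : Matrix I5 I5 K) *ᵥ δ (vv5 (j, s)) =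
        ((Units.mk0 c hc ^ wt5 (vv5 (j, s)) : Kˣ) : K) • δ (vv5 (j, s)) := by
      intro j s
      by_cases hj : j = 1
      · subst hj
        cases s
        · rw [h2]; simp [wt5, vv5, v5]
        · rw [h1]; simp [wt5, vv5, v5]
      · rw [hf' (j, s) (by simpa using hj)]
        have : wt5 (vv5 (j, s)) = 0 := by cases s <;> simp [wt5, vv5, v5, hj]
        simp [this]
    rcases (mul_self_eq_one_iff.1 hd) with rfl | rfl
    · refine ⟨Units.mk0 c hc, Or.inl (ext_delta fun i => ?_)⟩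
      rw [dT_delta]
      by_cases hi : i = Sum.inl ()
      · subst hi; rw [h3]; simp [wt5]
      · obtain ⟨⟨j, s⟩, rfl⟩ : i ∈ Set.range vv5 := by
          by_contra h; exact hi ((off5 i).1 h)
        exact hcols j s
    · refine ⟨Units.mk0 c hc, Or.inr (ext_delta fun i => ?_)⟩
      rw [Units.val_mul (dT wt5 _), ← Matrix.mulVec_mulVec, sn5_delta, Matrix.mulVec_smul, dT_delta]
      by_cases hi : i = Sum.inl ()
      · subst hi; rw [h3]; simp [wt5]
      · rw [if_neg hi, one_smul]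
        obtain ⟨⟨j, s⟩, rfl⟩ : i ∈ Set.range vv5 := by
          by_contra h; exact hi ((off5 i).1 h)
        exact hcols j s
  · rintro x ⟨c, rfl | rfl⟩
    · exact dT_normalizer _ _ wt_B2 c
    · exact mul_mem (dT_normalizer _ _ wt_B2 c) (permG_normalizer _ _ perm_B2)
  · rintro x ⟨a, rfl | rfl⟩ y ⟨b, rfl | rfl⟩
    all_goals
      have hab : Commute (dT wt5 a) (dT wt5 b) := dT_commute wt5 a b
      have hsa : Commute (sn5 K) (dT wt5 a) := sn5_dT a
      have hsb : Commute (sn5 K) (dT wt5 b) := sn5_dT b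
      refine mem_of_commute ?_
    · exact hab
    · exact hab.mul_right hsa.symm
    · exact hab.mul_left hsb
    · exact (hab.mul_right hsa.symm).mul_left (hsb.mul_right (Commute.refl _))

/-- Steinberg's group maps onto the derived group. -/
theorem exists_onto {ι : Type} [Fintype ι] [DecidableEq ι] {D : ChevalleyDatum} {P : Pk} {L : List ι}
    {M : List (Ent ι)} {T : Tab ι} (hck : ckAll P L M T = true) (hc : ∀ a, a ∈ L) (h : CT.Full D P)
    (hM : ∀ e ∈ M, e.2.2.1 = 0 ∧ e.2.2.2.1 = 0) {Q : (ι → K) → K} (hQ : ∀ v, Q v = formM M v)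
    (hperf : commutator (D.SteinbergCover K) = ⊤)
    (hle : ⁅Cfsg.isometryGroup K Q, Cfsg.isometryGroup K Q⁆ ≤ eGroup K hck hc) :
    ∃ φ : D.SteinbergCover K →* Cfsg.Omega K Q, Function.Surjective φ ∧
      ∀ r < P.nroots, ∀ t, ((φ (D.scGen K r t) : Cfsg.isometryGroup K Q) : GL ι K) = uX hck hc r t := by
  obtain ⟨ψ, hψ⟩ := exists_hom hck hc h hM hQ
  have hmem : ∀ s, ψ s ∈ Cfsg.Omega K Q := fun s => by
    have : ψ s ∈ Subgroup.map ψ (commutator _) := Subgroup.mem_map_of_mem ψ (hperf ▸ Subgroup.mem_top s)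
    rw [commutator_def, Subgroup.map_commutator] at this
    exact Subgroup.commutator_mono le_top le_top this
  refine ⟨ψ.codRestrict _ hmem, fun x => ?_, fun r hr t => hψ r hr t⟩
  have hx : ((x : Cfsg.isometryGroup K Q) : GL ι K) ∈ eGroup K hck hc := by
    have h1 : ((x : Cfsg.isometryGroup K Q) : GL ι K) ∈
        (commutator (Cfsg.isometryGroup K Q)).map (Cfsg.isometryGroup K Q).subtype :=
      Subgroup.mem_map_of_mem _ x.2
    rw [Subgroup.map_subtype_commutator] at h1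
    exact hle h1
  have hle2 : eGroup K hck hc ≤ ((Cfsg.isometryGroup K Q).subtype.comp ψ).range :=
    (Subgroup.closure_le _).2 fun g ⟨r, hr, t, e⟩ => ⟨D.scGen K r t, e ▸ hψ r hr t⟩
  obtain ⟨s, hs⟩ := hle2 hx
  exact ⟨s, Subtype.ext (Subtype.ext hs)⟩

theorem center_ne {ι : Type} [Fintype ι] [DecidableEq ι] {D : ChevalleyDatum} {P : Pk} {L : List ι}
    {M : List (Ent ι)} {T : Tab ι} (hck : ckAll P L M T = true) (hc : ∀ a, a ∈ L)
    {Q : (ι → K) → K} (hperf : commutator (D.SteinbergCover K) = ⊤)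
    {φ : D.SteinbergCover K →* Cfsg.Omega K Q} (hφ : Function.Surjective φ)
    (hgen : ∀ r < P.nroots, ∀ t, ((φ (D.scGen K r t) : Cfsg.isometryGroup K Q) : GL ι K) = uX hck hc r t)
    {g : GL ι K} (hg : g ∈ eGroup K hck hc) (hg1 : g ≠ 1) : Subgroup.center (Cfsg.Omega K Q) ≠ ⊤ := by
  intro htop
  have hbot : commutator (Cfsg.Omega K Q) = ⊥ := by
    rw [commutator_def, Subgroup.commutator_eq_bot_iff_le_centralizer]
    intro x _
    rw [Subgroup.mem_centralizer_iff]
    intro y _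
    have hx : x ∈ Subgroup.center (Cfsg.Omega K Q) := htop ▸ Subgroup.mem_top x
    exact Subgroup.mem_center_iff.1 hx y
  have h1 : ∀ s, φ s = 1 := fun s => by
    have : φ s ∈ Subgroup.map φ (commutator _) := Subgroup.mem_map_of_mem φ (hperf ▸ Subgroup.mem_top s)
    rw [commutator_def, Subgroup.map_commutator] at this
    have := Subgroup.commutator_mono le_top le_top this
    rw [← commutator_def, hbot] at this
    exact this
  have : eGroup K hck hc ≤ ⊥ := (Subgroup.closure_le _).2 fun y ⟨r, hr, t, e⟩ => by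
    rw [e, ← hgen r hr t, h1]
    exact Subgroup.mem_bot.2 rfl
  exact hg1 (Subgroup.mem_bot.1 (this hg))

theorem opM_ne_one {ι : Type} [Fintype ι] [DecidableEq ι] {n : ℕ} {v : Fin n × Bool → ι}
    (hv : Function.Injective v) {a b : Fin n × Bool} (hab : a.1 ≠ b.1) : opM v a b (1 : K) ≠ 1 := by
  intro e
  have h1 : a ≠ opp b := fun e => hab (by rw [e, opp_fst])
  have h2 : b ≠ a := fun e => hab (by rw [e])
  have := congrFun (congrFun e (v a)) (v (opp b))
  simp [opM, Matrix.one_apply, Matrix.single, hv.eq_iff, h1, h2] at this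

end Cfsg.Agent.Chev.OrthModel
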